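import Cfsg.Agent.S3F.Loc
import Cfsg.Agent.ZD.Fin
import Cfsg.Agent.SFT.C

/-! # Simple groups of order prime to three -/

set_option autoImplicit false
set_option linter.unusedVariables false
set_option linter.unusedSectionVars false

namespace Cfsg.Agent.S3F
open Cfsg Cfsg.Agent.BG Subgroup PHom
open Cfsg.Agent.Comp (QS CompIn Fit FStar Lay SubIn)

universe u

variable {G : Type u} [Group G] [Finite G]
  {A B D D' E H I J K L M N O P Q R S T U V W X Y Z : Subgroup G} {a b d g x y z w : G} {n : ℕ}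

/-- the global configuration -/
structure Gl (n : ℕ) (V T : Subgroup G) : Prop where
  hyp : Hyp.{u} n
  t : ¬ 3 ∣ Nat.card G
  le : Nat.card G ≤ n
  si : ∀ K : Subgroup G, N[K] = ⊤ → K = ⊥ ∨ K = ⊤
  c1 : ∀ a : G, a ≠ 1 → C1[a] ≠ ⊤
  ab : Abelem 2 V
  sc : SCl ⊤ V
  fv : ∀ R ≤ N[V], PiG {2} R → FV V R
  irr : MinN V N[V]
  big : 2 ^ 3 ≤ #V
  idx : ∀ K : Subgroup G, (∀ g ∈ N[V], ∀ k ∈ N[V], g ∉ K → k ∉ K → g⁻¹ * k ∈ K) → N[V] ≤ K
  syl : Syl 2 T C[V]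

namespace Gl
variable (h : Gl n V T)
include h

theorem nc : ¬ Cyc V := fun c => by
  have := Nat.le_of_dvd two_pos (h.ab.cyc_card p2 c)
  have := h.big
  omega

theorem VT : V ≤ T := h.syl.le_of_norm' (h.ab.pig p2) h.ab.abel (cents_norm h.syl.le)

theorem fr (hg : g ∈ N[V]) : ∃ k ∈ N[V] ⊓ N[T], ∀ U ≤ V, cj g U = cj k U := by
  obtain ⟨k, hk, c, hc, rfl⟩ := (Syl.frattini h.syl p2 (C_le_N V) (normC le_rfl)).symm.ex g hg
  exact ⟨k, hk, fun U l => by rw [cj_mul, cj_of_mem_C (centS l hc)]⟩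

theorem ne (a : Dat T V D) : ¬ V ≤ C[D] := fun c => a.nc (comm_eq_bot.2 c ▸ cyc_bot)

theorem ks (a : Dat T V D) (b : Dat T V D') : V ⊓ C[D'] ≤ C[D] ∨ ⁅V, D'⁆ ≤ C[D] := by
  refine a.ks b h.syl.pi h.VT h.syl.le (inf_eq_left.1 (h.irr.min _ inf_le_left (fun g hg => ?_) fun c => h.ne a ?_))
  · obtain ⟨k, hk, e⟩ := h.fr hg
    rw [mem_N_iff_cj, e _ inf_le_left, cj_of_mem_N (normI inf_le_left (normD inf_le_right) hk)]
  · exact comm_eq_bot.1 (eq_bot_iff.2 (c ▸ le_inf (commL a.nV) (a.der ▸ derS (commL a.nT))))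

theorem cjD (a : Dat T V D) (hg : g ∈ N[V]) : ∃ D', Dat T V D' ∧ V ⊓ C[D'] = cj g (V ⊓ C[D]) := by
  obtain ⟨k, hk, e⟩ := h.fr hg
  exact ⟨_, a.cj hk.2 hk.1, by rw [e _ inf_le_left, cj_inf, cj_C, cj_of_mem_N hk.1]⟩

theorem nn (a : Dat T V D) (c : V ⊓ C[D] ≠ ⊥) : ¬ N[V] ≤ N[V ⊓ C[D]] := fun e =>
  h.ne a (inf_eq_left.1 (h.irr.min _ inf_le_left e c))

theorem ncD (a : Dat T V D) (c : V ⊓ C[D] ≠ ⊥) : ¬ Cyc (V ⊓ C[D]) := fun e => h.nn a c fun g hg => by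
  obtain ⟨D', b, e1⟩ := h.cjD a hg
  exact mem_N_of_cj_le (e1 ▸ le_inf inf_le_left ((h.ks a b).resolve_right fun d =>
    b.nc (e.of_le (le_inf (commL b.nV) d))))

theorem meet (a : Dat T V D) (b : Dat T V D') (c : V ⊓ C[D] ≠ ⊥) : V ⊓ C[D] ⊓ C[D'] ≠ ⊥ := fun e => by
  have k : ∀ g ∈ N[V], g ∉ N[V ⊓ C[D]] → ∀ E, Dat T V E → V ⊓ C[E] = cj g (V ⊓ C[D]) → V ⊓ C[E] ≤ C[D'] :=
    fun g hg g1 E d e1 => (h.ks b d).resolve_right fun l => d.nc ((eq_bot_iff.2 (e ▸ le_inf (le_inf (commL d.nV)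
      ((h.ks a d).resolve_left fun m => g1 (mem_N_of_cj_le (e1 ▸ le_inf inf_le_left m)))) l)).symm ▸ cyc_bot)
  refine h.nn a c (h.idx _ fun g hg l hl g1 l1 => ?_)
  obtain ⟨E, d, e1⟩ := h.cjD a hg
  obtain ⟨E', d', e2⟩ := h.cjD a hl
  refine mem_N_of_cj_le (by
    rw [cj_mul, cj_le_iff, inv_inv, ← e1, ← e2]
    refine le_inf inf_le_left ((h.ks d d').resolve_right fun m => h.ne b ?_)
    rw [← (cop_abel_dprod h.ab.abel d'.nV (d'.odd.coprime' (h.ab.pig p2))).sup]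
    exact sup_le (k l hl l1 E' d' e2) ((le_inf (commL d'.nV) m).trans (k g hg g1 E d e1)))

variable (ha : a ∈ V) (a1 : a ≠ 1)
include ha a1

theorem t1 : ¬ 3 ∣ #C1[a] := fun c => h.t (c.trans (card_subgroup_dvd_card _))
theorem lt1 : #C1[a] < n := (card_lt (lt_top_iff_ne_top.2 (h.c1 a a1))).trans_le (card_top.le.trans h.le)
theorem le1 : V ≤ C1[a] := h.ab.abel.trans (C_le_C1 ha)

theorem lc : Lc n (C1[a] ÷ O[{2}ᶜ](C1[a])) (V ÷ O[{2}ᶜ](C1[a])) :=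
  ⟨h.hyp, fun c => h.t1 ha a1 (c.trans (card_im_dvd _)),
    (Nat.le_of_dvd (card_pos _) (card_im_dvd _)).trans_lt (h.lt1 ha a1), O_quo_O _ _, h.ab.im _,
    im_mono (h.le1 ha a1), (h.sc.mono le_top).im (O_norm _ _) (h.le1 ha a1) (h.ab.pig p2)⟩

omit ha a1 in
theorem sf : Comp.SF 2 V fun a => O[{2}ᶜ](C1[a]) := by
  refine ⟨abelem_iff.1 h.ab, fun a _ _ => O_le _ _, fun a _ _ => (pin_compl_cop p2).1 (O_pig _ _),
    fun a ha a1 => (h.le1 ha a1).trans (O_norm _ _), fun a ha a1 b hb b1 => ?_, fun a _ _ => H8.sol_of_odd (O_pig _ _)⟩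
  have n := O_norm {2}ᶜ C1[b]
  have m := h.le1 hb b1 ha
  have e := (h.lc hb b1).bal (app_mem_im ha (n m))
  rw [← C_zpowers ((quo _).app a), ← im_zpowers (φ := quo _) (n m), ← im_IC' (φ := quo _) (zpowers_le.2 (n m)) n
    ((quo_ker _).le.trans (O_le _ _)) (by
      rw [quo_ker]; exact ((h.ab.pig p2).of_le (zpowers_le.2 ha)).coprime (O_pig _ _)) (.inl (cyc_zpowers a).sol),
    C_zpowers] at e
  exact (quo_bot_iff (inf_le_right.trans n)).1 (eq_bot_iff.2 (e ▸ (im_mono ((le_inf inf_le_left (le_inf inf_le_right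
    (inf_le_left.trans (O_le _ _)))).trans (O_inf_le _ inf_le_right))).trans (im_O_le _ _)))

theorem loc : C1[a] ≤ N[SFT.Gen V fun a => O[{2}ᶜ](C1[a])] := by
  have f := SFT.complete h.sf h.big
  have o := SFT.famp f
  have pv := h.ab.pig p2
  have k : ∀ U ≤ V, ¬ Cyc U → N[U] ≤ N[SFT.Gen V fun a => O[{2}ᶜ](C1[a])] := fun U l c g e => mem_N_of_cj_le (cj_le_iff.2
    (cop_gen_cent1 (h.ab.abel.of_le l) c (l.trans f.inv) ((pv.of_le l).coprime o) fun b hb b1 =>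
      (f.loc b (l hb) b1).trans (cj_le_iff.1 (by
        rw [cj_O, cj_C1]; exact SFT.le_Gen (θ := fun a => O[{2}ᶜ](C1[a])) (l (conj_mem e hb)) (by simpa using b1)))))
  have n := O_norm {2}ᶜ C1[a]
  have l := h.le1 ha a1
  have lc := h.lc ha a1
  have OW : O[{2}ᶜ](C1[a]) ≤ _ := SFT.le_Gen (θ := fun a => O[{2}ᶜ](C1[a])) ha a1
  have oO := O_pig {2}ᶜ C1[a]
  have OH := O_le {2}ᶜ C1[a]
  generalize O[{2}ᶜ](C1[a]) = O at n lc OW oO OH
  have kO := (quo_ker O).le.trans OH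
  have cp : (#V).Coprime #(quo O).ker := by rw [quo_ker]; exact pv.coprime oO
  refine (le_of_im_le (φ := quo O) n (inf_le_left.trans n) ((quo_ker O).le.trans (le_inf OH (normsG OW)))
    (lc.gen.trans (sup_le (Comp.Lay_le_iff.2 fun L hL => ?_) ?_))).trans inf_le_right
  swap
  · rw [← im_IN_cop (l.trans n) n kO cp (.inl pv.sol)]
    exact im_mono (inf_le_inf_left _ (k V le_rfl h.nc))
  have c : ¬ Cyc (V ⊓ (quo O).pre C[L]) := by
    by_cases c : V ÷ O ≤ C[L]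
    · rw [inf_eq_left.2 ((le_pre_iff (φ := quo O) (l.trans n)).2 c)]; exact h.nc
    obtain ⟨D, -, d, e⟩ := ((site_of h.hyp lc.t lc.lt hL c).pull oO OH n inf_le_left l (h.t1 ha a1) (h.lt1 ha a1)).dat
      ((le_pre_iff (φ := quo O) ((C_le_C1 ha).trans n)).2 ((le_inf (im_mono (C_le_C1 ha)) (im_cent le_rfl)).trans
        (lc.cv hL c))) h.ab (h.sc.mono le_top) h.fv h.syl
    rw [comp_ker, quo_ker] at e
    refine e ▸ h.ncD d (ne_bot_of_mem (e ▸ mem_inf.2 ⟨ha, mem_pre.2 ⟨n (l ha), ?_⟩⟩) a1)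
    exact le_C1_iff.1 (hL.le.trans (im_C1 (n (l ha)) le_rfl))
  have Un := inf_le_left.trans (l.trans n) (a := V ⊓ (quo O).pre C[L])
  rw [← quo_pre L, ← (cop_prod_of_comm_le Un ((pv.of_le inf_le_left).coprime oO) (.inl (pv.of_le inf_le_left).sol)
    (le_pre_quo O L) ((quo_cent_iff (pre_le_dom (φ := quo O) _) Un).1 (by
      rw [quo_pre]; exact cent_symm ((le_pre_iff (φ := quo O) Un).1 inf_le_right)))).sup]
  exact im_mono (sup_le (le_inf (inf_le_left.trans (pre_le_of_le_im (φ := quo O) n kO hL.le))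
    ((cents_norm inf_le_right).trans (k _ inf_le_left c))) (le_inf OH (normsG OW)))

omit ha a1 in
theorem main : ∃ M : Subgroup G, M ≠ ⊤ ∧ ∀ a ∈ V, a ≠ 1 → C1[a] ≤ M := by
  have v0 := h.irr.ne
  have pv := h.ab.pig p2
  by_cases w : (SFT.Gen V fun a => O[{2}ᶜ](C1[a])) = ⊥
  swap
  · exact ⟨_, fun c => v0 (pv.eq_bot ((SFT.famp (SFT.complete h.sf h.big)).of_le
      (le_top.trans ((h.si _ c).resolve_left w).ge))), fun a => h.loc⟩
  have lc : ∀ {a}, a ∈ V → a ≠ 1 → Lc n C1[a] V := fun {a} ha a1 => ⟨h.hyp, h.t1 ha a1, h.lt1 ha a1,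
    eq_bot_iff.2 (w ▸ SFT.le_Gen (θ := fun a => O[{2}ᶜ](C1[a])) ha a1), h.ab, h.le1 ha a1, h.sc.mono le_top⟩
  let F : Set (Subgroup G) := {L | ¬ V ≤ C[L] ∧ ∃ a ∈ V, a ≠ 1 ∧ CompIn L C1[a]}
  have f1 : ∀ L ∈ F, ∃ D, Dat T V D ∧ V ⊓ C[D] = V ⊓ C[L] := fun L ⟨c, a, ha, a1, hL⟩ => by
    obtain ⟨D, -, d, e⟩ := (site_of h.hyp (h.t1 ha a1) (h.lt1 ha a1) hL c).dat
      ((le_inf (C_le_C1 ha) le_rfl).trans ((lc ha a1).cv hL c)) h.ab (h.sc.mono le_top) h.fv h.syl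
    exact ⟨D, d, quo_ker C[L] ▸ e⟩
  have f2 : ∀ L ∈ F, ∀ b ∈ V ⊓ C[L], b ≠ 1 → CompIn L C1[b] := fun L ⟨c, a, ha, a1, hL⟩ b hb b1 =>
    (lc hb.1 b1).term ha (hL.restrict (le_inf (le_C1_iff.2 hb.2) hL.le) inf_le_right)
  have f3 : ∀ L ∈ F, sSup F ⊔ V ≤ N[L] := fun L hL => by
    obtain ⟨D, d, e⟩ := f1 L hL
    obtain ⟨c, a, ha, a1, hL'⟩ := id hL
    refine sup_le (sSup_le fun K hK => ?_) ((lc ha a1).nV hL')
    obtain ⟨D', d', e'⟩ := f1 K hK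
    obtain ⟨b, hb, b1⟩ := exists_mem_ne_one (h.meet d d' (ne_bot_of_mem (e ▸ mem_inf.2 ⟨ha, le_C1_iff.1 hL'.le⟩) a1))
    exact ((f2 K hK b (e' ▸ mem_inf.2 ⟨hb.1.1, hb.2⟩) b1).eq_or_comm (f2 L hL b (e ▸ hb.1) b1)).elim
      (fun e => e ▸ normG K) fun e => cents_norm (comm_eq_bot.1 e)
  have nF : N[V] ≤ N[sSup F ⊔ V] := normY (fun g hg => mem_N_of_cj_le (cj_le_iff.2 (sSup_le
    fun L ⟨c, a, ha, a1, hL⟩ => cj_le_iff.1 (le_sSup ⟨fun d => c (cent_cj.1 ((cj_of_mem_N hg).le.trans d)), _,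
      conj_mem hg ha, by simpa using a1, cj_C1 g a ▸ hL.map_inj (cj_inj g)⟩)))) le_rfl
  refine ⟨N[sSup F ⊔ V], fun c => ?_, fun a ha a1 => (lc ha a1).gen.trans (sup_le (Comp.Lay_le_iff.2 fun L hL => ?_)
    (inf_le_right.trans nF))⟩
  · have e := (h.si _ c).resolve_left fun e => v0 (eq_bot_iff.2 (le_sup_right.trans e.le))
    obtain ⟨a, ha, a1⟩ := exists_mem_ne_one v0
    rcases F.eq_empty_or_nonempty with f | ⟨L, hL⟩
    · rw [f, sSup_empty, bot_sup_eq] at e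
      exact h.c1 a a1 (top_le_iff.1 (e ▸ h.le1 ha a1))
    obtain ⟨-, b, hb, b1, hL'⟩ := id hL
    exact h.c1 b b1 (top_le_iff.1 (((h.si L (top_le_iff.1 (e ▸ f3 L hL))).resolve_left hL'.qs.ne_bot) ▸ hL'.le))
  · by_cases c : V ≤ C[L]
    · exact (cents_norm (cent_symm c)).trans nF
    · exact normsG ((le_sSup (show L ∈ F from ⟨c, a, ha, a1, hL⟩)).trans le_sup_left)

end Gl

theorem se_of [IsSimpleGroup G] (hy : Hyp.{u} (Nat.card G)) (na : ¬ IsMulCommutative G) (t : ¬ 3 ∣ Nat.card G) :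
    ∃ H : Subgroup G, IsStronglyEmbedded H := by
  have si : ∀ K : Subgroup G, N[K] = ⊤ → K = ⊥ ∨ K = ⊤ := fun K c => (normal_iff.2 c.ge).eq_bot_or_eq_top
  have q := Comp.qs_top_of_simple inferInstance na
  have c1 : ∀ a : G, a ≠ 1 → C1[a] ≠ ⊤ := fun a a1 c => (si (zpowers a) (top_le_iff.1 (norm_zpowers c.ge))).elim
    (fun e => a1 (zpowers_eq_bot.1 e)) fun e => q.not_solvable (e ▸ (cyc_zpowers a).sol)
  obtain ⟨S, s⟩ := syl_exists p2 (⊤ : Subgroup G)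
  have s0 : S ≠ ⊥ := fun e => q.not_solvable (H8.sol_of_odd (s.eq_bot_iff.1 e))
  have t' : ∀ H : Subgroup G, ¬ 3 ∣ #H := fun H c => t (c.trans (card_subgroup_dvd_card H))
  obtain ⟨V₀, a, b⟩ := exists_adm hy (t' ⊤) card_top.le s
  obtain ⟨V, l, m⟩ := exists_minN (fun e => s.pi.OmZ_ne_bot s0 (eq_bot_iff.2 (b.trans e.le))) (le_refl N[V₀])
  have ab := a.ab.of_le l
  have pv := ab.pig p2
  have VS := l.trans a.vS
  have SN := (a.nS le_top).trans m.norm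
  have irr : MinN V N[V] := ⟨m.ne, le_rfl, fun B c d => m.min B c (m.norm.trans d)⟩
  have ctrl : ∀ x ∈ S, ∀ g : G, g * x * g⁻¹ ∈ S → ∃ y ∈ N[V], g * x * g⁻¹ = y * x * y⁻¹ := fun x hx g hg => by
    obtain ⟨y, y1, y2⟩ := fc_all hy _ le_rfl G ⊤ S V₀ (by rw [card_top]; omega) (t' ⊤) s a _ (zpowers_le.2 hx) g
      (mem_top g) (by rwa [cj_zpowers, zpowers_le])
    have := cj_eq_of (A := zpowers x) y2
    refine ⟨y, m.norm y1.2, ?_⟩
    rw [← mul_inv_cancel_left y g, mul_assoc y, ← mem_C.1 y2 x (mem_zpowers x)]; group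
  have scl : IsStronglyClosed V S := ⟨VS, fun x hx g hg => by
    obtain ⟨y, y1, e⟩ := ctrl x (VS hx) g hg
    exact e ▸ conj_mem y1 hx⟩
  have sc : SCl ⊤ V := fun R _ p l x hx g _ hg => by
    obtain ⟨k, -, e⟩ := Syl.cj_sub s p2 le_top p
    have n : k ∈ N[V] := mem_N_of fun v hv => scl.2 v hv k (e (mem_cj_conj.2 (l hv)))
    have := scl.2 x hx (k * g) (by convert e (mem_cj_conj.2 hg) using 1; group)
    convert conj_mem' n this using 1; group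
  have sN := s.sub SN le_top
  obtain ⟨z, ⟨z1, z2⟩, z3⟩ := exists_mem_ne_one (pv.meet_C s.pi SN m.ne)
  have cz : ∀ D ≤ N[V], N[V] ≤ N[D] → PiN {2} (C[V].relIndex D) → D ≤ C1[z] := fun D d1 d2 d3 =>
    le_of_syl fun p hp _ => by
      by_cases e : p = 2
      · exact ⟨_, e ▸ sN.inf_norm' d1 d2, inf_le_left.trans (le_C1_iff.2 z2)⟩
      obtain ⟨Q, hQ⟩ := syl_exists hp D
      exact ⟨Q, hQ, fun x hx => C_le_C1 z1 (cent_of_idx d3 d1 (hQ.le hx) (pie_odd e hQ.pi hx))⟩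
  obtain ⟨T, hT⟩ := syl_exists p2 C[V]
  refine (Gl.main (n := Nat.card G) ⟨hy, t, le_rfl, si, c1, ab, sc, fun R =>
    FV.of_syl (fun E e1 e2 => ?_) sN le_rfl, irr, ?_, fun K hK => ?_, hT⟩).elim fun M ⟨m1, m2⟩ =>
      ZD.s1174 s m.ne scl fun c => m1 (top_le_iff.1 (c.ge.trans (iSup_le fun t =>
        m2 t t.2.1 (Inv.ord2_iff.1 t.2.2).2)))
  · obtain ⟨D, d1, d2, d3, d4⟩ := f1' hy ab (normG V) le_rfl (t' _) (card_le le_top |>.trans card_top.le)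
      (e1.trans SN) e2
    exact (Nat.pow_le_pow_left (idx_le (inf_le_left.trans (cent_symm (inf_eq_left.1 (irr.min _ inf_le_left
      (normI le_rfl (normC d2)) (ne_bot_of_mem ⟨z1, le_C1_iff.1 (cz D d1 d2 d3)⟩ z3)))))) 2).trans d4
  · by_contra c
    have o := orderOf_of_pow p2 (ab.pow z z1) z3
    have e := irr.min _ (zpowers_le.2 z1) (norm_zpowers (le_of_syl fun p hp hd => ?_)) (mt zpowers_eq_bot.1 z3)
    · have := H8.zstar_rel o (mem_top z) s fun g _ hg => by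
        classical
        have := e.ge (scl.2 z z1 g hg)
        rw [mem_zpowers_iff_mem_range_orderOf, o] at this
        obtain ⟨k, hk, e⟩ := Finset.mem_image.1 this
        have := Finset.mem_range.1 hk
        interval_cases k
        · exact (z3 (by simpa using e.symm)).elim
        · rw [← e, pow_one]
      rw [(si _ (top_le_iff.1 (O_norm _ _))).resolve_right fun e => s0 (s.pi.eq_bot ((O_pig _ _).of_le
        (le_top.trans e.ge))), le_bot_iff, comm_eq_bot, C_zpowers] at this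
      exact c1 z z3 (top_le_iff.1 this)
    by_cases e : p = 2
    · exact ⟨S, e ▸ sN, le_C1_iff.2 z2⟩
    obtain ⟨Q, hQ⟩ := syl_exists hp N[V]
    refine ⟨Q, hQ, (cent_symm (inf_eq_left.1 (eq_of_card_le inf_le_left ?_))).trans (C_le_C1 z1)⟩
    have i := (Nat.modEq_iff_dvd' (card_le inf_le_left)).1 (hQ.pi.card_modEq hp hQ.le).symm
    obtain ⟨k, hk⟩ := pv.card_pow p2
    have p3 : p ≠ 3 := fun e => t' _ (e ▸ hd)
    have p5 := hp.five_le_of_ne_two_of_ne_three e p3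
    have := card_pos (V ⊓ C[Q])
    rw [hk, not_le, Nat.pow_lt_pow_iff_right one_lt_two] at c
    have := Nat.pow_le_pow_right two_pos (show k ≤ 2 by omega)
    have := Nat.eq_zero_of_dvd_of_lt i (by omega)
    omega
  · have sq : ∀ g ∈ N[V], g * g ∈ K := fun g hg => by
      by_cases c : g ∈ K
      · exact mul_mem c c
      · simpa using hK _ (inv_mem hg) g hg (by simpa using c) c
    have n : N[V] ≤ N[N[V] ⊓ K] := fun g hg => mem_N_of fun k hk => ⟨conj_mem (normG _ hg) hk.1, by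
      by_cases c : g ∈ K
      · exact conj_mem (normG _ c) hk.2
      · simpa [mul_assoc] using hK _ (inv_mem hg) _ (mul_mem hk.1 (inv_mem hg)) (by simpa using c)
          fun d => c (by simpa using (K.mul_mem_cancel_left hk.2).1 d)⟩
    have d := (der_le_of_sq n fun g hg => ⟨mul_mem hg hg, sq g hg⟩).trans inf_le_right
    refine le_of_syl fun p hp _ => ?_
    by_cases e : p = 2
    · refine ⟨S, e ▸ sN, (le_inf le_rfl (le_top.trans q.perfect.ge)).trans (focal_le p2 s fun x hx g _ hg => ?_)⟩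
      obtain ⟨y, y1, e⟩ := ctrl x hx g hg
      simpa [e, mul_assoc] using d (comm_mem (inv_mem (SN hx)) y1)
    obtain ⟨Q, hQ⟩ := syl_exists hp N[V]
    refine ⟨Q, hQ, fun x hx => ?_⟩
    obtain ⟨k, hk⟩ := Inv.exists_sqrt_of_odd (Nat.odd_iff.2 (Nat.two_dvd_ne_zero.1
      ((pin_compl p2).1 (pie_odd e hQ.pi hx))))
    exact hk ▸ sq _ (pow_mem (hQ.le hx) k)

theorem hyp_all (n : ℕ) : Hyp.{u} n := by
  induction n using Nat.strong_induction_on with | _ n ih => ?_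
  intro L _ _ _ a b c
  obtain ⟨H, hH⟩ := se_of (ih _ c) a b
  exact sz_of_se b hH

end Cfsg.Agent.S3F
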