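import Cfsg.Agent.S3F.Fus

/-! # Almost simple sections -/

set_option autoImplicit false
set_option linter.unusedVariables false
set_option linter.unusedSectionVars false

namespace Cfsg.Agent.S3F
open Cfsg Cfsg.Agent.BG Subgroup PHom
open Cfsg.Agent.Comp (QS CompIn Fit FStar Lay SubIn)

universe u

theorem Bo.map {G G' : Type*} [Group G] [Group G'] [Finite G] [Finite G'] {I Q Z : Subgroup G} (h : Bo I Q Z)
    {f : G →* G'} (hf : Function.Injective f) : Bo (I.map f) (Q.map f) (Z.map f) := by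
  have n : ∀ {d}, f d ∈ N[Q.map f] ↔ d ∈ N[Q] := fun {d} => by
    rw [← zpowers_le, ← zpowers_le, ← MonoidHom.map_zpowers, norm_map_inj hf]
  have m : ∀ {d} {A : Subgroup G}, f d ∈ A.map f ↔ d ∈ A := mem_map_iff_mem hf
  have k : ∀ {d}, d ∈ I ⊓ N[Q] → f d ∈ I.map f ⊓ N[Q.map f] := fun a => ⟨m.2 a.1, n.2 a.2⟩
  refine ⟨h.syl.map f, map_mono h.zle, cent_map h.zc f, ?_, ?_, ?_, fun c => h.nab ((cent_map_inj hf).1 c),
    by rw [card_map_inj hf, card_map_inj hf, h.card], by rw [card_map_inj hf]; exact h.eight, ?_, ?_, ?_, ?_⟩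
  · rintro _ ⟨x, hx, rfl⟩ e
    exact m.2 (h.inv x hx (hf (by rw [map_mul, e, map_one])))
  · rintro _ ⟨x, hx, rfl⟩
    rw [← map_mul, h.zsq x hx, map_one]
  · rintro _ ⟨x, hx, rfl⟩
    rw [← map_mul]; exact m.2 (h.sq x hx)
  · rintro _ ⟨x, hx, rfl⟩ e _ ⟨⟨y, hy, rfl⟩, c⟩
    exact m.2 (h.c1 x hx (fun d => e (by rw [d, map_one])) ⟨hy, mem_C1.2 (hf (by simpa using mem_C1.1 c))⟩)
  · rintro _ ⟨x, hx, rfl⟩ a _ ⟨y, hy, rfl⟩ b
    obtain ⟨d, d1, rfl⟩ := h.trZ x hx (fun d => a (by rw [d, map_one])) y hy fun d => b (by rw [d, map_one])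
    exact ⟨f d, k d1, by simp⟩
  · rintro _ ⟨x, hx, rfl⟩ a _ ⟨y, hy, rfl⟩ b
    obtain ⟨d, d1, d2⟩ := h.trQ x hx (mt m.2 a) y hy (mt m.2 b)
    exact ⟨f d, k d1, by simpa using m.2 d2⟩
  · rintro _ ⟨x, hx, rfl⟩ a _ ⟨y, hy, rfl⟩ b
    obtain ⟨u, u1, u2⟩ := h.reg x hx (mt n.2 a) y hy (mt n.2 b)
    exact ⟨f u, m.2 u1, by simpa using n.2 u2⟩

variable {G : Type u} [Group G] [Finite G] {A B D E H I K L M N P Q R S T U V W X Y Z : Subgroup G}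
  {d g x y z w : G} {n : ℕ}

/-- an almost simple group `X` with socle `I` -/
structure AS (X I Q Z : Subgroup G) : Prop extends Bo I Q Z where
  le : I ≤ X
  nI : X ≤ N[I]
  fa : X ⊓ C[I] = ⊥
  out : ∀ x ∈ X, x * x = 1 → x ∈ I
  si : ∀ K ≤ I, I ≤ N[K] → K = ⊥ ∨ K = I

theorem as_of (hy : Hyp.{u} n) (h : QS I) (h1 : I ≤ X) (h2 : X ≤ N[I]) (h3 : X ⊓ C[I] = ⊥) (t : ¬ 3 ∣ #I)
    (l : #I < n) (s : Syl 2 Q I) : ∃ Z, AS X I Q Z := by
  have z : I ⊓ C[I] = ⊥ := eq_bot_iff.2 (h3 ▸ inf_le_inf_right _ h1)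
  have := h.isSimpleGroup z
  have sz := hy I h.not_isMulCommutative t l
  obtain ⟨Q₀, Z₀, b⟩ := sz.bo
  have b1 := b.map I.subtype_injective
  rw [map_subtype_top] at b1
  obtain ⟨g, hg, rfl⟩ := b1.syl.conj p2 s
  have b2 : Bo (cj g I) _ _ := b1.map (cj_inj g)
  rw [cj_of_mem hg] at b2
  refine ⟨_, b2, h1, h2, h3, fun x hx e => ?_, fun K a c => (h.normal K a c).symm.imp_left fun d =>
    eq_bot_iff.2 (z ▸ le_inf a (comm_eq_bot.1 d))⟩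
  obtain ⟨y, hy⟩ := sz.out ((aut I).app x) fun w => by
    rw [← MulAut.mul_apply, ← app_mul (φ := aut I) (h2 hx) (h2 hx), e, app_one, MulAut.one_apply]
  have : (y : G)⁻¹ * x = 1 := mem_bot.1 (h3 ▸ mem_inf.2 ⟨mul_mem (inv_mem (h1 y.2)) hx, mem_C.2 fun w hw => by
    have := congrArg Subtype.val (hy ⟨w, hw⟩)
    rw [aut_app (h2 hx)] at this
    calc w * ((y : G)⁻¹ * x) = (y : G)⁻¹ * (y * w * (y : G)⁻¹) * x := by group
      _ = _ := by rw [← show x * w * x⁻¹ = y * w * (y : G)⁻¹ from this]; group⟩)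
  rw [← inv_mul_eq_one.1 this]; exact y.2

theorem exists_out (l : List G) (h : l.length * #Z < #Q) : ∃ w ∈ Q, ∀ c ∈ l, c * w ∉ Z := by
  have k : ∀ l : List G, {w | ∃ c ∈ l, c * w ∈ Z}.ncard ≤ l.length * #Z := fun l => by
    induction l with
    | nil => simp
    | cons c l ih =>
      have e : {w | ∃ d ∈ c :: l, d * w ∈ Z} = (fun z => c⁻¹ * z) '' Z ∪ {w | ∃ d ∈ l, d * w ∈ Z} := by
        ext w; simp
      rw [e, List.length_cons, Nat.succ_mul, add_comm]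
      exact (Set.ncard_union_le _ _).trans (Nat.add_le_add (Set.ncard_image_le (Set.toFinite _)) ih)
  by_contra c
  push Not at c
  exact h.not_ge ((Set.ncard_le_ncard (s := (Q : Set G)) c).trans (k l))

theorem der_le_of_sq (n : P ≤ N[A]) (h : ∀ x ∈ P, x * x ∈ A) : ⁅P, P⁆ ≤ A := comm_le_iff.2 fun a ha b hb => by
  have := mul_mem (mul_mem (h _ (mul_mem ha hb)) (conj_mem (n (inv_mem hb)) (h _ (inv_mem ha)))) (h _ (inv_mem hb))
  convert this using 1; group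

namespace Bo
variable (h : Bo I Q Z)
include h

theorem pq : PiG {2} Q := h.syl.pi
theorem nZ : N[Q] ≤ N[Z] := fun g hg => mem_N_of fun z hz =>
  h.inv _ (conj_mem hg (h.zle hz)) (by rw [conj_mul, h.zsq z hz]; group)
theorem comm (hz : z ∈ Z) (hx : x ∈ Q) : z * x = x * z := mem_C_comm h.zc hz hx
theorem ne : Z ≠ ⊥ := fun e => by have := h.eight; rw [e, card_bot'] at this; omega

theorem irr (h1 : U ≤ Z) (h2 : I ⊓ N[Q] ≤ N[U]) (h3 : U ≠ ⊥) : U = Z := by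
  obtain ⟨x, hx, x1⟩ := exists_mem_ne_one h3
  refine le_antisymm h1 fun y hy => ?_
  by_cases y1 : y = 1
  · exact y1 ▸ one_mem _
  obtain ⟨d, d1, rfl⟩ := h.trZ x (h1 hx) x1 y hy y1
  exact conj_mem (h2 d1) hx

theorem der_le : ⁅Q, Q⁆ ≤ Z := der_le_of_sq ((normG Q).trans h.nZ) h.sq

theorem der : ⁅Q, Q⁆ = Z := h.irr h.der_le (normD inf_le_right) (mt abel_iff_der.2 h.nab)

theorem three : ∃ x ∈ Q, ∃ y ∈ Q, ∃ w ∈ Q, x ∉ Z ∧ y ∉ Z ∧ w ∉ Z ∧ x * y ∉ Z ∧ x * w ∉ Z ∧ y * w ∉ Z ∧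
    x * (y * w) ∉ Z := by
  have k : ∀ m ≤ 4, m * #Z < #Q := fun m hm => by
    have := h.eight; rw [h.card, pow_two]; exact Nat.mul_lt_mul_of_pos_right (by omega) (card_pos _)
  obtain ⟨x, x1, x2⟩ := exists_out [1] (k 1 (by omega))
  obtain ⟨y, y1, y2⟩ := exists_out [1, x] (k 2 (by omega))
  obtain ⟨w, w1, w2⟩ := exists_out [1, x, y, x * y] (k 4 (by omega))
  simp only [List.mem_cons, List.not_mem_nil, or_false, forall_eq_or_imp, forall_eq, one_mul, mul_assoc] at x2 y2 w2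
  exact ⟨x, x1, y, y1, w, w1, x2, y2.1, w2.1, y2.2, w2.2.1, w2.2.2.1, w2.2.2.2⟩

theorem nofix (h1 : I ⊓ N[Q] ≤ Q ⊔ D) (hx : x ∈ Q) (c : x ∈ C[D]) : x = 1 := by
  have k : ∀ z ∈ Z, z ∈ C[D] → z = 1 := fun z hz c => by_contra fun z1 => by
    have e := h.irr (zpowers_le.2 hz) (norm_zpowers (le_C1_iff.2 (centS h1 (C_sup Q D ▸ mem_inf.2 ⟨h.zc hz, c⟩))))
      (mt zpowers_eq_bot.1 z1)
    have := h.eight
    rw [← e, card_zpowers_of_pow p2 ((pow_two z).trans (h.zsq z hz)) z1] at this; omega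
  exact k x (h.inv x hx (k _ (h.sq x hx) (mul_mem c c))) c

theorem Z_eq (hx : x ∈ Q) (c : x ∈ C[Q]) : x ∈ Z := by_contra fun x1 => h.nab fun y hy => by
  by_cases y1 : y ∈ Z
  · exact h.zc y1
  obtain ⟨d, d1, d2⟩ := h.trQ x hx x1 y hy y1
  simpa [mul_assoc] using mul_mem (inv_mem (h.zc d2)) (conj_mem (normC inf_le_right d1) c)

theorem ind (h1 : X ≤ C[Y]) (h2 : X ⊔ Y = Q) : X ≤ Z ∨ Y ≤ Z := by
  by_contra c
  obtain ⟨⟨x, x1, x2⟩, y, y1, y2⟩ := (not_or.1 c).imp SetLike.not_le_iff_exists.1 SetLike.not_le_iff_exists.1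
  have xQ : X ≤ Q := h2 ▸ le_sup_left
  have yQ : Y ≤ Q := h2 ▸ le_sup_right
  let B : G → Set G := fun w => (fun q => w * q * w⁻¹ * q⁻¹) '' Q
  have b1 : ∀ w ∈ Q, ∀ z ∈ Z, B (z * w) = B w := fun w hw z hz => Set.image_congr fun q hq => by
    rw [mul_inv_rev, ← mul_assoc, mul_assoc z, mul_assoc z, h.comm hz (conj_mem (normG Q hw) hq)]; group
  have b2 : ∀ w, ∀ d ∈ N[Q], B (d * w * d⁻¹) = (fun b => d * b * d⁻¹) '' B w := fun w d hd => by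
    rw [Set.image_image]
    ext; constructor
    · rintro ⟨q, hq, rfl⟩; exact ⟨_, conj_mem' hd hq, by group⟩
    · rintro ⟨q, hq, rfl⟩; exact ⟨_, conj_mem hd hq, by group⟩
  have b3 : ∀ w ∈ Q, w ∉ Z → (B w).ncard = (B x).ncard := fun w hw w1 => by
    obtain ⟨d, d1, d2⟩ := h.trQ x (xQ x1) x2 w hw w1
    rw [← b1 w hw _ d2, inv_mul_cancel_right, b2 x d d1.2, Set.ncard_image_of_injective]
    exact (MulAut.conj d).injective
  have b4 : ∀ {X Y : Subgroup G}, X ≤ C[Y] → X ⊔ Y = Q → ∀ x ∈ X, ∀ y ∈ Y, x ∉ Z → y ∉ Z → B x = B (x * y) :=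
    fun {X Y} h1 h2 x x1 y y1 x2 y2 => by
      have xQ : X ≤ Q := h2 ▸ le_sup_left
      have yQ : Y ≤ Q := h2 ▸ le_sup_right
      refine Set.eq_of_subset_of_ncard_le ?_ ((b3 _ (mul_mem (xQ x1) (yQ y1)) fun c => x2 (h.Z_eq (xQ x1) ?_)).trans
        (b3 x (xQ x1) x2).symm).le
      · rintro _ ⟨q, hq, rfl⟩
        obtain ⟨a, ha, b, hb, rfl⟩ := (mem_sup_r (cents_norm h1)).1 (h2.ge hq)
        refine ⟨a, xQ ha, ?_⟩
        have e1 := mem_C_comm h1 ha y1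
        have e2 := mem_C_comm h1 x1 hb
        calc x * y * a * (x * y)⁻¹ * a⁻¹ = x * (y * a) * y⁻¹ * x⁻¹ * a⁻¹ := by group
          _ = x * a * b * (x * b)⁻¹ * a⁻¹ := by rw [← e1]; group
          _ = _ := by rw [e2]; group
      · rw [← h2, C_sup]
        refine mem_inf.2 ⟨?_, h1 x1⟩
        simpa using mul_mem (centS xQ (h.zc c)) (inv_mem (cent_symm h1 y1))
  have b5 : ∀ a ∈ X, a ∉ Z → ∀ b ∈ Y, b ∉ Z → B a = B b := fun a a1 a2 b b1 b2 => by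
    rw [b4 h1 h2 a a1 b b1 a2 b2, mem_C_comm h1 a1 b1]
    exact (b4 (cent_symm h1) (sup_comm X Y ▸ h2) b b1 a a1 b2 a2).symm
  have b6 : ∀ w ∈ Q, w ∉ Z → B w = B x := fun w hw w1 => by
    obtain ⟨a, ha, b, hb, rfl⟩ := (mem_sup_r (cents_norm h1)).1 (h2.ge hw)
    by_cases a1 : a ∈ Z
    · rw [b1 b (yQ hb) a a1, b5 x x1 x2 b hb fun c => w1 (mul_mem a1 c)]
    rw [b5 x x1 x2 y y1 y2, ← b5 a ha a1 y y1 y2]
    by_cases b2 : b ∈ Z
    · rw [mem_C_comm h1 ha hb, b1 a (xQ ha) b b2]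
    · rw [b4 h1 h2 a ha b hb a1 b2]
  have b7 : (Z : Set G) ⊆ B x := fun z hz => by
    by_cases z1 : z = 1
    · exact ⟨1, one_mem _, by simp [z1]⟩
    obtain ⟨q, q1, q2⟩ : ∃ q ∈ Q, x * q * x⁻¹ * q⁻¹ ≠ 1 := by
      by_contra c
      push Not at c
      exact x2 (h.Z_eq (xQ x1) (mem_C.2 fun q hq => by
        have := c q hq; rw [mul_inv_eq_one, mul_inv_eq_iff_eq_mul] at this; exact this.symm))
    obtain ⟨d, d1, rfl⟩ := h.trZ _ (h.der_le (comm_mem (xQ x1) q1)) q2 z hz z1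
    rw [← b6 _ (conj_mem d1.2 (xQ x1)) fun c => x2 (by simpa [mul_assoc] using conj_mem' (h.nZ d1.2) c), b2 x d d1.2]
    exact ⟨_, ⟨q, q1, rfl⟩, rfl⟩
  have a := SE.card_conj Q x
  have a1 : Set.ncard {y | ∃ q ∈ Q, q * x * q⁻¹ = y} = (B x).ncard := by
    rw [← Set.ncard_image_of_injective _ (show Function.Injective fun y => x * y⁻¹ from fun _ _ e => by simpa using e)]
    congr 1; ext; simp [B, mul_assoc]
  have a2 : #Z < #(Q ⊓ C1[x]) := card_lt (lt_of_le_of_ne (le_inf h.zle (h.zc.trans (C_le_C1 (xQ x1)))) fun e =>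
    x2 (e ▸ mem_inf.2 ⟨xQ x1, mem_C1_self x⟩))
  have a3 : #Z ≤ (B x).ncard := Set.ncard_le_ncard b7
  rw [a1, h.card, pow_two] at a
  exact (Nat.mul_lt_mul_of_lt_of_le a2 a3 ((card_pos _).trans_le a3)).ne a

end Bo

namespace AS
variable (h : AS X I Q Z)
include h

theorem ti (hg : g ∈ I) (g1 : g ∉ N[Q]) : Q ⊓ cj g Q = ⊥ := by
  by_contra c
  obtain ⟨z, ⟨z1, z2⟩, o⟩ := cauchy p2 ((h.pq.of_le inf_le_left).dvd c)
  obtain ⟨z3, z4⟩ := Inv.ord2_iff.1 o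
  have := cj_mono g (cent_symm (zpowers_le.2 (h.zc (h.inv _ (mem_cj.1 z2) (by
    rw [show g⁻¹ * z * g * (g⁻¹ * z * g) = g⁻¹ * (z * z) * g by group, z3]; group)))))
  rw [cj_C, cj_zpowers, C_zpowers, show g * (g⁻¹ * z * g) * g⁻¹ = z by group] at this
  exact g1 (mem_N_of_cj_le ((le_inf (h.syl.cj_mem hg).le this).trans (h.c1 z (h.inv z z1 z3) z4)))

theorem not_norm : ¬ I ≤ N[Q] := fun c => by
  rcases h.si Q h.syl.le c with e | e
  · exact h.nab (e ▸ abel_bot)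
  · exact h.ne (eq_bot_iff.2 (h.fa ▸ le_inf (h.zle.trans (h.syl.le.trans h.le)) (e ▸ h.zc)))

theorem dec (hg : g ∈ I) (g1 : g ∉ N[Q]) (hx : x ∈ X) (x1 : x ∈ N[Q]) :
    ∃ u ∈ Q, PiE {2}ᶜ (u * x) ∧ u * x ∈ N[cj g Q] := by
  obtain ⟨u, hu, e⟩ := h.reg _ (conj_mem (h.nI hx) hg) (fun c => g1 (by
    simpa [mul_assoc] using conj_mem' (normG _ x1) c)) g hg g1
  have m : u * x ∈ N[cj g Q] := by
    rw [← cj_N, mem_cj]; convert mul_mem e x1 using 1; group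
  refine ⟨u, hu, PiG.elt (A := X ⊓ N[Q] ⊓ N[cj g Q]) ((pin_compl p2).2 fun c => ?_)
    ⟨⟨mul_mem (h.le (h.syl.le hu)) hx, mul_mem (normG Q hu) x1⟩, m⟩, m⟩
  obtain ⟨y, ⟨⟨y1, y2⟩, y3⟩, o⟩ := cauchy p2 c
  obtain ⟨y4, y5⟩ := Inv.ord2_iff.1 o
  have p := pig_zpowers.2 (pie_of_pow p2 ((pow_two y).trans y4))
  have l := zpowers_le.2 (h.out y y1 y4)
  exact y5 (mem_bot.1 (h.ti hg g1 ▸ mem_inf.2 ⟨h.syl.le_of_norm p l (zpowers_le.2 y2) (mem_zpowers y),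
    (h.syl.cj_mem hg).le_of_norm p l (zpowers_le.2 y3) (mem_zpowers y)⟩))

theorem two (h1 : R ≤ X) (h2 : PiG {2} R) (h3 : R ≤ N[Q]) : R ≤ Q := fun x hx => by
  obtain ⟨g, hg, g1⟩ := SetLike.not_le_iff_exists.1 h.not_norm
  obtain ⟨u, hu, a, -⟩ := h.dec hg g1 (h1 hx) (h3 hx)
  rw [eq_inv_of_mul_eq_one_right (((h.pq.sup_l h2 h3).elt (mul_mem_sup' hu hx)).eq_one a)]
  exact inv_mem hu

theorem aut (h1 : Y ≤ X) (h2 : PiG {2}ᶜ Y) (h3 : Y ≤ C[Q]) : Y = ⊥ := by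
  have l : Y ≤ ⨅ g : I, N[cj (g : G) Q] := le_iInf fun g y hy => by
    by_cases g1 : (g : G) ∈ N[Q]
    · rw [cj_of_mem_N g1]; exact C_le_N _ (h3 hy)
    obtain ⟨u, hu, a, b⟩ := h.dec g.2 g1 (h1 hy) (C_le_N _ (h3 hy))
    rwa [(h.pq.elt hu).eq_one (a.of_mem_zpowers (pi_part_mem (h.pq.elt hu) (h2.elt hy) (mem_C.1 (h3 hy) u hu))),
      one_mul] at b
  have n : I ≤ N[⨅ g : I, N[cj (g : G) Q]] := fun k hk => mem_N_of fun a ha => mem_iInf.2 fun g => by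
    have := mem_iInf.1 ha ⟨_, mul_mem (inv_mem hk) g.2⟩
    rwa [cj_mul, ← cj_N, mem_cj_inv] at this
  rcases h.si _ inf_le_left (normI (normG I) n) with e | e
  · exact eq_bot_iff.2 (h.fa ▸ le_inf h1 (comm_eq_bot.1 (eq_bot_iff.2 (e ▸ le_inf (commR (h1.trans h.nI))
      ((commS l le_rfl).trans (commL n))))))
  · exact (h.not_norm (by simpa [cj_one] using (inf_eq_left.1 e).trans (iInf_le _ 1))).elim

end AS

end Cfsg.Agent.S3F
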