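import Cfsg.Agent.S3F.As

/-! # The tori of the components acting on a Sylow subgroup of `C(V)` -/

set_option autoImplicit false
set_option linter.unusedVariables false
set_option linter.unusedSectionVars false

namespace Cfsg.Agent.S3F
open Cfsg Cfsg.Agent.BG Subgroup PHom
open Cfsg.Agent.Comp (QS CompIn Fit FStar Lay SubIn)

universe u

variable {G : Type u} [Group G] [Finite G] {G' : Type u} [Group G'] [Finite G']
  {A B D D' E H I K L M N O P Q R S T U V W X Y Z : Subgroup G} {d g x y z w : G} {n : ℕ} {φ : PHom G G'}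

/-- strong closure in `H` -/
def SCl (H V : Subgroup G) : Prop :=
  ∀ R ≤ H, PiG {2} R → V ≤ R → ∀ x ∈ V, ∀ h ∈ H, h * x * h⁻¹ ∈ R → h * x * h⁻¹ ∈ V

theorem SCl.mono (h : SCl H V) (l : K ≤ H) : SCl K V := fun R a b c x d g e => h R (a.trans l) b c x d g (l e)

theorem SCl.norm (h : SCl H V) (a : R ≤ H) (b : PiG {2} R) (c : V ≤ R) : H ⊓ N[R] ≤ N[V] := fun g hg =>
  mem_N_of fun x hx => h R a b c x hx g hg.1 (conj_mem hg.2 (c hx))

theorem SCl.im (h : SCl H V) (d : H ≤ φ.dom) (l : V ≤ H) (p : PiG {2} V) : SCl (φ.im H) (φ.im V) :=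
  fun R a b c x hx g hg e => by
  obtain ⟨x, x1, rfl⟩ := (mem_im' (l.trans d)).1 hx
  obtain ⟨g, g1, rfl⟩ := (mem_im' d).1 hg
  obtain ⟨S, s1, s2⟩ := syl_superset p2 (le_inf ((le_pre_iff (l.trans d)).2 c) l) p
  have sH := s1.le.trans inf_le_right
  have m := conj_mem (normG H g1) (l x1)
  rw [← app_conj (d g1) (d (l x1))] at e ⊢
  obtain ⟨k, hk, le⟩ := Syl.cj_sub s1 p2 (zpowers_le.2 (mem_inf.2 ⟨mem_pre.2 ⟨d m, e⟩, m⟩))
    (pig_zpowers.2 (pie_conj.2 (p.elt x1)))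
  have e1 := s1.im_eq (inf_le_right.trans d) (by rw [im_pre_inf a]; exact b)
  have e2 := h S sH s1.pi s2 x x1 _ (mul_mem hk.2 g1) (by
    convert le (mem_cj_conj.2 (mem_zpowers _)) using 1; group)
  have e3 := conj_mem' (im_norm ((le_inf sH (normG S)).trans (h.norm sH s1.pi s2))
    (e1.ge (app_mem_im hk (d hk.2)))) (app_mem_im e2 (d (l e2)))
  rw [show k * g * x * (k * g)⁻¹ = k * (g * x * g⁻¹) * k⁻¹ by group, app_conj (d hk.2) (d m)] at e3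
  convert e3 using 1; group

theorem im_N_syl (h : Syl 2 S M) (d : M ≤ φ.dom) : φ.im M ⊓ N[φ.im S] ≤ φ.im (M ⊓ N[S]) := by
  have sd := h.le.trans d
  have n : M ⊓ φ.pre N[φ.im S] ≤ N[M ⊓ (S ⊔ φ.ker)] := normI (inf_le_left.trans (normG M))
    (norm_sup_ker (inf_le_left.trans d) sd ((le_pre_iff (inf_le_left.trans d)).1 inf_le_right))
  have l : M ⊓ (S ⊔ φ.ker) ≤ M ⊓ φ.pre N[φ.im S] := inf_le_inf_left _ (sup_le
    ((le_pre_iff sd).2 (normG _)) (ker_le_pre _))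
  rw [← im_inf_pre, ← (Syl.frattini (h.sub (le_inf h.le le_sup_left) inf_le_left) p2 l n).sup,
    im_le_im_iff (sup_le (inf_le_left.trans d) (inf_le_left.trans (inf_le_left.trans d))) (inf_le_left.trans d)]
  exact sup_le (inf_le_right.trans (sup_le_sup_right (le_inf h.le (normG S)) _))
    ((inf_le_inf_right _ inf_le_left).trans le_sup_left)

theorem xs (hP : PiG {2} P) (hD : PiG {2}ᶜ D) (n : D ≤ N[P]) (e : ⁅P, D⁆ = P) (a1 : A ≤ Y)
    (a2 : ∀ a ∈ A, a ^ 2 = 1) (y1 : Y ≤ P) (y2 : Y ≤ C[P]) (y3 : Y ≤ A ⊔ P ⊓ C[D]) (sq : ∀ x ∈ P, x * x ∈ Y)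
    (tr : ∀ x ∈ P, x ∉ Y → ∀ y ∈ P, y ∉ Y → ∃ d, (∀ c ∈ Y, d * c * d⁻¹ * c⁻¹ ∈ A) ∧ d * x * d⁻¹ * y⁻¹ ∈ Y)
    (th : ∃ x ∈ P, ∃ y ∈ P, ∃ w ∈ P, x ∉ Y ∧ y ∉ Y ∧ w ∉ Y ∧ x * y ∉ Y ∧ x * w ∉ Y ∧ y * w ∉ Y ∧
      x * (y * w) ∉ Y) : ⁅P, P⁆ ≤ A := by
  have ab : Abel Y := y1.trans (cent_symm y2)
  have cm : ∀ {c x}, c ∈ Y → x ∈ P → c * x = x * c := fun a b => mem_C_comm y2 a b
  have d1 := der_le_of_sq (cents_norm (cent_symm y2)) sq
  have d2 : P ⊓ C[D] ≤ ⁅P, P⁆ := by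
    have := cop_abel_C_comm ((quo_abel_iff (der_norm P)).2 le_rfl) (im_norm (φ := quo ⁅P, P⁆) n)
      (cop_im (hD.coprime' hP) _)
    rw [← im_comm (φ := quo _) (der_norm P) (normD n), e] at this
    exact (quo_bot_iff (inf_le_left.trans (der_norm P))).1 (eq_bot_iff.2 (this ▸ im_IC_le _ _))
  have d3 : ∀ c ∈ Y, c * c = 1 := fun c hc => (pow_two c).symm.trans (ab.mem_Om.1 ((y3.trans (sup_le
    (fun a ha => mem_Om (a1 ha) (a2 a ha)) (d2.trans (comm_le_iff.2 fun a ha b hb => mem_Om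
      (d1 (comm_mem ha hb)) (by
        calc _ = a * b * a⁻¹ * b⁻¹ * a * (b * a⁻¹ * b⁻¹) := by rw [pow_two]; group
          _ = a * a * b * (a * a)⁻¹ * b⁻¹ := by rw [cm (d1 (comm_mem ha hb)) ha]; group
          _ = 1 := by rw [cm (sq a ha) hb]; group))))) hc)).2
  have m : ∀ x ∈ P, x ∉ Y → ∀ y ∈ P, y ∉ Y → y * y * (x * x) ∈ A := fun x hx x1 y hy y1 => by
    obtain ⟨d, b1, b2⟩ := tr x hx x1 y hy y1
    convert b1 _ (sq x hx) using 1
    rw [inv_eq_of_mul_eq_one_left (d3 _ (sq x hx))]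
    calc _ = (d * x * d⁻¹ * y⁻¹) * (d * x * d⁻¹ * y⁻¹) * y * y * (x * x) := by rw [d3 _ b2]; group
      _ = (d * x * d⁻¹ * y⁻¹) * y * ((d * x * d⁻¹ * y⁻¹) * y) * (x * x) := by
        generalize d * x * d⁻¹ * y⁻¹ = c at b2
        rw [mul_assoc c y, ← mul_assoc y, ← cm b2 hy]; group
      _ = _ := by group
  obtain ⟨x, hx, y, hy, w, hw, x1, b1, b2, b3, b4, b5, b6⟩ := th
  have k : ∀ y ∈ P, y ∉ Y → x * y ∉ Y → y * x * y⁻¹ * x⁻¹ * (x * x) ∈ A := fun y hy y1 y2 => by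
    convert mul_mem (m x hx x1 _ (mul_mem hx hy) y2) (inv_mem (m x hx x1 y hy y1)) using 1
    calc _ = x * (y * x * y⁻¹ * x⁻¹) * x := by rw [← cm (d1 (comm_mem hy hx)) hx]; group
      _ = _ := by group
  have x2 : x * x ∈ A := by
    convert mul_mem (inv_mem (mul_mem (k w hw b2 b4) (k y hy b1 b3))) (k _ (mul_mem hy hw) b5 b6) using 1
    rw [mul_assoc _ (x * x), ← mul_assoc (x * x), cm (sq x hx) (der_le P (comm_mem hy hx)),
      mul_assoc _ (x * x), d3 _ (sq x hx), eq_inv_mul_iff_mul_eq, mul_left_inj]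
    calc _ = w * x * w⁻¹ * x⁻¹ * y * (x * y⁻¹ * x⁻¹) := by group
      _ = _ := by rw [cm (d1 (comm_mem hw hx)) hy]; group
  refine der_le_of_sq (cents_norm (cent_symm (a1.trans y2))) fun u hu => ?_
  by_cases u1 : u ∈ Y
  · rw [d3 u u1]; exact one_mem _
  · simpa [mul_assoc] using mul_mem (m x hx x1 u hu u1) (inv_mem x2)

/-- a torus acting on `T` -/
structure Dat (T V D : Subgroup G) : Prop where
  nT : D ≤ N[T]
  nV : D ≤ N[V]
  odd : PiG {2}ᶜ D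
  cK : ⁅T, D⁆ ≤ C[T ⊓ C[D]]
  ind : ∀ X Y, X ≤ C[Y] → X ⊔ Y = T → X ≤ V ⊔ T ⊓ C[D] ∨ Y ≤ V ⊔ T ⊓ C[D]
  der : ⁅⁅T, D⁆, ⁅T, D⁆⁆ = ⁅V, D⁆
  nc : ¬ Cyc ⁅V, D⁆

theorem Dat.cj (h : Dat T V D) (a : g ∈ N[T]) (b : g ∈ N[V]) : Dat T V (cj g D) := by
  rw [← cj_of_mem_N a, ← cj_of_mem_N b]
  refine ⟨norm_cj.2 h.nT, norm_cj.2 h.nV, h.odd.cj g, ?_, fun X Y c e => ?_, ?_, ?_⟩ <;>
    simp only [← cj_C, ← cj_inf, ← cj_comm, ← cj_sup, cj_le_cj, cj_eq_cj, cyc_cj]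
  · exact h.cK
  · rw [le_cj_iff, le_cj_iff]; exact h.ind _ _ (cent_cj.2 c) (by rw [← cj_sup, e, cj_inv_cj])
  · exact h.der
  · exact h.nc

theorem Dat.ks (h : Dat T V D) (h' : Dat T V D') (p : PiG {2} T) (a : V ≤ T) (b : T ≤ C[V]) (c : V ≤ ⁅T, T⁆) :
    V ⊓ C[D'] ≤ C[D] ∨ ⁅V, D'⁆ ≤ C[D] := by
  have e := (cop_cent_prod h'.nT (h'.odd.coprime' p) (.inr p.sol)).sup
  have ab : Abel V := a.trans b
  have k : ∀ X ≤ V ⊔ T ⊓ C[D], ⁅X, X⁆ ≤ C[D] := fun X l => (derS l).trans ((der_sup_le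
    ((abel_iff_der.1 ab).le.trans bot_le) (der_le _) ((comm_eq_bot'.2 (inf_le_left.trans b)).le.trans bot_le)
    (cents_norm (cent_symm (inf_le_left.trans b))) (normG _)).trans inf_le_right)
  refine (h.ind _ _ h'.cK e).symm.imp (fun l => ?_) fun l => h'.der ▸ k _ l
  rw [← e, der_sup (cents_norm (cent_symm h'.cK)), comm_eq_bot.2 h'.cK, sup_bot_eq, h'.der] at c
  refine (inf_le_inf_right _ c).trans ((modr_l (cents_norm ?_) ((der_le _).trans inf_le_right)).le.trans ?_)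
  · exact (der_le _).trans (inf_le_left.trans (b.trans (centS (commL h'.nV))))
  · rw [cop_abel_C_comm ab h'.nV (h'.odd.coprime' (p.of_le a)), bot_sup_eq]; exact k _ l

/-- a component seen through a homomorphism -/
structure Site (n : ℕ) (V N L O : Subgroup G) (φ : PHom G G') : Prop where
  hyp : Hyp.{u} n
  dom : N ≤ φ.dom
  le : L ≤ N
  nL : N ≤ N[L]
  odd : PiG {2}ᶜ O
  com : ⁅L, N ⊓ φ.ker⁆ ≤ O
  qs : QS (φ.im L)
  fa : φ.im N ⊓ C[φ.im L] = ⊥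
  t : ¬ 3 ∣ #N
  lt : #N < n
  nk : ¬ V ≤ φ.ker

theorem Site.dat (h : Site n V N L O φ) (cv : C[V] ≤ N) (ab : Abelem 2 V) (sc : SCl N V)
    (fv : ∀ R ≤ N[V], PiG {2} R → FV V R) (hT : Syl 2 T C[V]) :
    ∃ D ≤ L, Dat T V D ∧ V ⊓ C[D] = V ⊓ φ.ker := by
  have VT : V ≤ T := hT.le_of_norm' (ab.pig p2) ab.abel (cents_norm hT.le)
  obtain ⟨S, s, TS⟩ := syl_superset p2 (hT.le.trans cv) hT.pi
  have VS := VT.trans TS
  have sP := s.inf_norm' h.le h.nL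
  have Ld := h.le.trans h.dom
  have Sd := s.le.trans h.dom
  have Vd := VS.trans Sd
  have cK : ∀ X ≤ L, X ≤ N[S] → X ≤ C[S ⊓ φ.ker] := fun X a b => comm_eq_bot.1 (eq_bot_iff.2
    (s.pi.inf_bot h.odd ▸ le_inf ((commS le_rfl inf_le_left).trans (commR b))
      ((commS a (inf_le_inf_right _ s.le)).trans h.com)))
  have d := (card_im_dvd (φ := φ) L).trans (cardS h.le)
  obtain ⟨Z, a⟩ := as_of h.hyp h.qs (im_mono h.le) (im_norm h.nL) h.fa (fun c => h.t (c.trans d))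
    ((Nat.le_of_dvd (card_pos _) d).trans_lt h.lt) (sP.im Ld)
  have nP : N ⊓ N[S] ≤ N[S ⊓ L] := normI inf_le_right (inf_le_left.trans h.nL)
  have SB : S ≤ N ⊓ N[S] := le_inf s.le (normG S)
  have e1 : φ.im S = φ.im (S ⊓ L) :=
    le_antisymm (a.two (im_mono s.le) (s.pi.im _) (im_norm (SB.trans nP))) (im_mono inf_le_left)
  have BN : L ⊓ N[S] ≤ N ⊓ N[S] := inf_le_inf_right _ h.le
  have PB : S ⊓ L ≤ L ⊓ N[S] := le_inf inf_le_right (normsG inf_le_left)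
  obtain ⟨D, sd⟩ := (sP.sub PB inf_le_left).exists_sdprod (BN.trans nP)
  have oD : PiG {2}ᶜ D := (sd.hall_compl (sP.sub PB inf_le_left)).pi
  have DL : D ≤ L := sd.right.trans inf_le_left
  have DS : D ≤ N[S] := sd.right.trans inf_le_right
  have cP := cK _ inf_le_right (normsG inf_le_left)
  have nf : φ.im L ⊓ N[φ.im (S ⊓ L)] ≤ φ.im (L ⊓ N[S]) := by
    have l := sup_le h.le s.le
    refine (inf_le_inf (im_mono le_sup_left) (e1 ▸ le_rfl)).trans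
      ((im_N_syl (s.sub le_sup_right l) (l.trans h.dom)).trans_eq ?_)
    rw [modr_l (s.le.trans h.nL) (normG S), im_sup (inf_le_left.trans Ld) Sd, e1, sup_eq_left.2 (im_mono PB)]
  generalize hP : S ⊓ L = P at *
  have PS : P ≤ S := hP ▸ inf_le_left
  have PL := sP.le
  have cS : ∀ X ≤ S, X ⊓ C[D] = X ⊓ φ.ker := fun X l => le_antisymm (fun x hx => ⟨hx.1, mem_ker.2 ⟨Sd (l hx.1),
    a.nofix (nf.trans_eq (by rw [← sd.sup, im_sup (PL.trans Ld) (DL.trans Ld)]))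
      (e1.le (app_mem_im (l hx.1) (Sd (l hx.1)))) (im_cent le_rfl (app_mem_im hx.2 (Sd (l hx.1))))⟩⟩)
    (le_inf inf_le_left ((inf_le_inf_right _ l).trans (cent_symm (cK D DL DS))))
  have nV := BN.trans (sc.norm s.le s.pi VS)
  have eV : φ.im V = Z := a.irr (fun x hx => a.inv x (e1.le (im_mono VS hx))
    ((pow_two x).symm.trans ((ab.im φ).pow x hx))) (nf.trans (im_norm nV)) (mt (im_eq_bot_iff Vd).1 h.nk)
  have DV := sd.right.trans nV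
  have dp := cop_abel_dprod ab.abel DV (oD.coprime' (ab.pig p2))
  rw [cS V VS] at dp
  have AV := dp.right
  have inL : ∀ X ≤ S, D ≤ N[X] → ⁅X, D⁆ ≤ P := fun X l m => hP ▸ le_inf ((commL m).trans l)
    ((commS le_rfl DL).trans (commR (l.trans (s.le.trans h.nL))))
  have AP := inL V VS DV
  have eA : φ.im ⁅V, D⁆ = Z := by
    rw [← eV]; nth_rw 2 [← dp.sup]
    rw [im_sup (inf_le_left.trans Vd) (AV.trans Vd), (im_eq_bot_iff (inf_le_left.trans Vd)).2 inf_le_right, bot_sup_eq]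
  have Y0 : ∀ X ≤ P, ⁅V, D⁆ ≤ X → X ⊓ φ.pre Z = ⁅V, D⁆ ⊔ φ.ker ⊓ X := fun X l m => by
    rw [← eA, pre_im (AV.trans Vd), inf_comm, modl_r ((AV.trans Vd).trans dom_norm_ker) m]
  have kP : φ.ker ⊓ P ≤ C[P] := (le_inf (inf_le_right.trans PS) inf_le_left).trans (cent_symm cP)
  have Y1 : P ⊓ φ.pre Z ≤ C[V] := by
    rw [Y0 P le_rfl AP]
    refine sup_le (AV.trans ab.abel) ?_
    rw [← dp.sup]
    exact centY (centSS cP inf_le_right (inf_le_inf_right _ VS)) (kP.trans (centS AP))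
  have mP : ∀ {x}, x ∈ P → φ.app x ∈ φ.im P := fun hx => app_mem_im hx (Ld (PL hx))
  have mZ : ∀ {x}, x ∈ P → (x ∈ φ.pre Z ↔ φ.app x ∈ Z) := fun hx => mem_pre.trans (and_iff_right (Ld (PL hx)))
  have sq : ∀ x ∈ P, x * x ∈ φ.pre Z := fun x hx => (mZ (mul_mem hx hx)).2 (by
    rw [app_mul (Ld (PL hx)) (Ld (PL hx))]; exact a.sq _ (mP hx))
  have tr : ∀ x ∈ P, x ∉ φ.pre Z → ∀ y ∈ P, y ∉ φ.pre Z → ∃ d ∈ L ⊓ N[S], d * x * d⁻¹ * y⁻¹ ∈ P ⊓ φ.pre Z :=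
    fun x hx x1 y hy y1 => by
      obtain ⟨d, d0, d2⟩ := a.trQ _ (mP hx) (mt (mZ hx).2 x1) _ (mP hy) (mt (mZ hy).2 y1)
      obtain ⟨d, d1, rfl⟩ := (mem_im' (inf_le_left.trans Ld)).1 (nf d0)
      have m := conj_mem (sd.nl d1) hx
      refine ⟨d, d1, mem_inf.2 ⟨mul_mem m (inv_mem hy), (mZ (mul_mem m (inv_mem hy))).2 ?_⟩⟩
      rwa [app_mul (Ld (PL m)) (Ld (PL (inv_mem hy))), app_conj (Ld d1.1) (Ld (PL hx)), app_inv (Ld (PL hy))]
  have PV : P ≤ C[V] := by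
    by_contra c
    have l1 : C[V] ⊓ P ≤ φ.pre Z := fun x hx => by_contra fun x1 => c fun y hy => by
      by_cases y1 : y ∈ φ.pre Z
      · exact Y1 ⟨hy, y1⟩
      obtain ⟨d, d1, d2⟩ := tr x hx.2 x1 y hy y1
      simpa [mul_assoc] using mul_mem (inv_mem (Y1 d2)) (conj_mem (normC nV d1) hx.1)
    have l2 := (Nat.pow_le_pow_left (idx_le l1) 2).trans ((fv P (PB.trans nV) sP.pi P le_rfl fun e he =>
      Y1 ⟨pow_mem he 2, pow_two e ▸ sq e he⟩).trans (idx_le (D := φ.ker)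
        ((le_inf (inf_le_right.trans VS) inf_le_left).trans (cent_symm cP))))
    have l3 := card_mul_relIndex a.zle
    rw [a.card, pow_two, Nat.mul_right_inj (card_ne _)] at l3
    rw [relIndex_pre _ (PL.trans Ld), l3, ← card_im Vd, eV] at l2
    have := a.eight
    nlinarith
  have eT : S ⊓ C[V] = T := hT.max (s.pi.of_le inf_le_left) inf_le_right (le_inf TS hT.le)
  have PT : P ≤ T := eT ▸ le_inf PS PV
  have nT : L ⊓ N[S] ≤ N[T] := eT ▸ normI inf_le_right (normC nV)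
  have DT := sd.right.trans nT
  have Td := TS.trans Sd
  have iT : φ.im T = φ.im P := le_antisymm ((im_mono TS).trans e1.le) (im_mono PT)
  have P1 := inL T TS DT
  have c1 := oD.coprime' hT.pi
  have i1 : φ.im ⁅T, D⁆ = φ.im P := by
    rw [← iT]; nth_rw 2 [← (cop_cent_prod DT c1 (.inr hT.pi.sol)).sup]
    rw [cS T TS, im_sup (P1.trans (PL.trans Ld)) (inf_le_left.trans Td),
      (im_eq_bot_iff (inf_le_left.trans Td)).2 inf_le_right, sup_bot_eq]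
  have A1 : ⁅V, D⁆ ≤ ⁅T, D⁆ := commS VT le_rfl
  refine ⟨D, DL, ⟨DT, DV, oD, cS T TS ▸ centSS cP P1 (inf_le_inf_right _ TS), fun X Y b e => ?_, ?_, fun c => ?_⟩,
    cS V VS⟩
  · have k : ∀ X ≤ T, φ.im X ≤ Z → X ≤ V ⊔ T ⊓ C[D] := fun X l m => by
      rw [cS T TS, inf_comm, ← modl_r (Vd.trans dom_norm_ker) VT]
      exact le_inf ((im_le_im_iff (l.trans Td) Vd).1 (eV ▸ m)) l
    have xT : X ≤ T := e ▸ le_sup_left
    have yT : Y ≤ T := e ▸ le_sup_right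
    exact (a.ind (im_cent b) (by rw [← im_sup (xT.trans Td) (yT.trans Td), e, iT])).imp (k X xT) (k Y yT)
  · have d1 := P1.trans (PL.trans Ld)
    have yc : ⁅T, D⁆ ⊓ φ.pre Z ≤ C[P] := by
      rw [Y0 _ P1 A1]; exact sup_le (AV.trans (cent_symm PV)) ((inf_le_inf_left _ P1).trans kP)
    have y3 : ⁅T, D⁆ ⊓ φ.pre Z ≤ ⁅V, D⁆ ⊔ ⁅T, D⁆ ⊓ C[D] := by rw [Y0 _ P1 A1, cS _ (P1.trans PS), inf_comm]
    have l := xs (sP.pi.of_le P1) oD (comm_normr T D) (cop_comm_comm DT c1 (.inr hT.pi.sol))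
      (le_inf A1 ((le_pre_iff (AV.trans Vd)).2 eA.le)) (fun v hv => ab.pow v (AV hv)) inf_le_left
      (yc.trans (centS P1)) y3 (fun x hx => ⟨mul_mem hx hx, sq x (P1 hx)⟩) (fun x hx x1 y hy y1 => by
        obtain ⟨d, d1, d2⟩ := tr x (P1 hx) (fun c => x1 ⟨hx, c⟩) y (P1 hy) fun c => y1 ⟨hy, c⟩
        rw [← sd.sup] at d1
        refine ⟨d, comm_le_iff.1 (comm_sup_le ((comm_eq_bot'.2 yc).le.trans bot_le) ((commS le_rfl y3).trans
          (comm_sup_le' (commR (comm_normr V D)) ((comm_eq_bot'.2 inf_le_right).le.trans bot_le) (normG _)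
            (cents_norm (inf_le_left.trans (P1.trans (PV.trans (centS AV)))))))
          (cents_norm (PV.trans (centS AV))) (comm_normr V D)) d d1, mem_inf.2 ⟨mul_mem (conj_mem
            (sup_le (PT.trans (comm_norml T D)) (comm_normr T D) d1) hx) (inv_mem hy), d2.2⟩⟩) (by
        obtain ⟨x, hx, y, hy, w, hw, b⟩ := a.three
        obtain ⟨x, x1, rfl⟩ := (mem_im' d1).1 (i1.ge hx)
        obtain ⟨y, y1, rfl⟩ := (mem_im' d1).1 (i1.ge hy)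
        obtain ⟨w, w1, rfl⟩ := (mem_im' d1).1 (i1.ge hw)
        rw [← app_mul (d1 x1) (d1 y1), ← app_mul (d1 x1) (d1 w1), ← app_mul (d1 y1) (d1 w1),
          ← app_mul (d1 x1) (d1 (mul_mem y1 w1))] at b
        have k : ∀ {x}, φ.app x ∉ Z → x ∉ ⁅T, D⁆ ⊓ φ.pre Z := fun c e => c (mem_pre.1 e.2).2
        exact ⟨x, x1, y, y1, w, w1, k b.1, k b.2.1, k b.2.2.1, k b.2.2.2.1, k b.2.2.2.2.1, k b.2.2.2.2.2.1,
          k b.2.2.2.2.2.2⟩)
    refine le_antisymm l ((le_inf ((im_le_im_iff (AV.trans Vd) ((der_le _).trans d1)).1 (by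
      rw [im_der d1, i1, a.der, eA])) le_rfl).trans ((modl_r (((der_le _).trans d1).trans dom_norm_ker) l).le.trans
        (sup_le le_rfl ?_)))
    exact (le_inf (le_inf (inf_le_right.trans AV) inf_le_left) inf_le_right).trans (dp.inf.le.trans bot_le)
  · have := Nat.le_of_dvd two_pos (((ab.of_le AV).im φ).cyc_card p2 (c.im φ))
    have := a.eight
    rw [eA] at *; omega

end Cfsg.Agent.S3F
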