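import Cfsg.Agent.S3F.Suz
import Cfsg.Agent.Fac.Op
import Cfsg.Agent.Comp.Bal
import Cfsg.Agent.Inv.Two

/-! # `3'`-groups acting on elementary abelian `2`-groups: the reductions -/

set_option autoImplicit false
set_option linter.unusedVariables false
set_option linter.unusedSectionVars false

namespace Cfsg.Agent.S3F
open Cfsg Cfsg.Agent.BG Subgroup PHom Cfsg.Agent.Fac

universe u

/-- the simple `3'`-groups of order `< n` are known -/
def Hyp (n : ℕ) : Prop := ∀ (L : Type u) [Group L] [Finite L] [IsSimpleGroup L],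
  ¬ IsMulCommutative L → ¬ 3 ∣ Nat.card L → Nat.card L < n → Sz L

section
variable {G : Type*} [Group G] [Finite G] {A B D E E₀ K L R U V W W₀ X Y : Subgroup G} {x y e : G}

theorem p2 : Nat.Prime 2 := Nat.prime_two

theorem abelem_of_sq (h : ∀ x ∈ X, x ^ 2 = 1) : Abelem 2 X := by
  refine ⟨le_C_iff.2 fun a ha b hb => ?_, h⟩
  have e : ∀ x ∈ X, x⁻¹ = x := fun x hx => inv_eq_of_mul_eq_one_left (sq x ▸ h x hx)
  rw [← e _ (mul_mem ha hb), mul_inv_rev, e a ha, e b hb]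

theorem idx_le (h : D ⊓ E ≤ A) : A.relIndex E ≤ D.relIndex E := by
  rw [← inf_relIndex_right D]; exact Nat.le_of_dvd (relIndex_pos _ _) (relIndex_dvd_left h _)

theorem idx_mul (h1 : A ⊓ W ≤ B) : A.relIndex W = A.relIndex (W ⊓ B) * B.relIndex W := by
  rw [← inf_relIndex_right A W, ← inf_relIndex_right B W, inf_comm B,
    ← relIndex_mul_relIndex (A ⊓ W) (W ⊓ B) W (le_inf inf_le_right h1) inf_le_left,
    ← inf_relIndex_right A (W ⊓ B), ← inf_assoc, inf_eq_left.2 h1]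

theorem idx_mono (h : W₀ ≤ W) (h2 : W ≤ N[W ⊓ A]) : A.relIndex W₀ ≤ A.relIndex W := by
  rw [← inf_relIndex_right A W, inf_comm, ← inf_relIndex_right A W₀,
    show A ⊓ W₀ = W ⊓ A ⊓ W₀ by rw [inf_comm W, inf_assoc, inf_eq_right.2 h], inf_relIndex_right]
  exact Nat.le_of_dvd (relIndex_pos _ _) (relIndex_dvd_of_norm inf_le_left h (h.trans h2))

/-- fixed points on a subgroup and on the quotient -/
theorem idx_quo (h : W₀ ≤ W) (h1 : W ≤ N[W₀]) (h2 : B ≤ A) :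
    C[A].relIndex W₀ * C[B ÷ W₀].relIndex (W ÷ W₀) ≤ C[A].relIndex W := by
  have e1 := card_inf_mul_relIndex C[A] W
  have e2 := card_inf_mul_relIndex C[A] W₀
  have e3 := card_inf_mul_relIndex C[B ÷ W₀] (W ÷ W₀)
  have e4 := card_im_mul (φ := quo W₀) h1
  have e5 := card_im_mul (φ := quo W₀) (A := C[A] ⊓ W) (inf_le_right.trans h1)
  rw [quo_ker] at e4 e5
  rw [inf_eq_right.2 h] at e4
  rw [inf_assoc, inf_eq_right.2 h] at e5
  have e6 : #((C[A] ⊓ W) ÷ W₀) ≤ #(C[B ÷ W₀] ⊓ (W ÷ W₀)) :=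
    card_le (le_inf (im_cent (inf_le_left.trans (centS h2))) (im_mono inf_le_right))
  refine Nat.le_of_mul_le_mul_left ?_ (card_pos (C[A] ⊓ W))
  rw [e1, ← e4, ← e2, ← e3, ← e5]
  calc _ = #(C[A] ⊓ W₀) * C[A].relIndex W₀ * (#((C[A] ⊓ W) ÷ W₀) * C[B ÷ W₀].relIndex (W ÷ W₀)) := by ring
    _ ≤ _ := Nat.mul_le_mul_left _ (Nat.mul_le_mul_right _ e6)

theorem cent_of_idx (h : PiN {2} (C[W].relIndex D)) (h1 : D ≤ N[W]) (hx : x ∈ D) (o : PiE {2}ᶜ x) :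
    x ∈ C[W] := mem_of_cop_relIndex (normC h1) hx (o.coprime' h)

theorem pig2_of (h : ∀ x ∈ D, PiE {2}ᶜ x → x = 1) : PiG {2} D :=
  pig_of_prime_elts fun x hx hp => by_contra fun e => by
    have := h x hx ((pin_prime hp).2 e)
    rw [this, orderOf_one] at hp; exact Nat.not_prime_one hp

theorem cop2 (hW : PiG {2} W) (o : PiE {2}ᶜ x) : (#(zpowers x)).Coprime #W :=
  (pig_zpowers.2 o).coprime' hW

/-- the conclusion -/
def F1c (W X E : Subgroup G) : Prop :=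
  ∃ D ≤ X, X ≤ N[D] ∧ PiN {2} (C[W].relIndex D) ∧ D.relIndex E ^ 2 ≤ C[E].relIndex W

/-- the hypotheses -/
structure Act (n : ℕ) (W X E : Subgroup G) : Prop where
  ab : Abelem 2 W
  nW : X ≤ N[W]
  le : E ≤ X
  sq : ∀ e ∈ E, e ^ 2 ∈ C[W]
  t : ¬ 3 ∣ C[W].relIndex X
  lt : C[W].relIndex X < n

end

def IH (n m : ℕ) : Prop := ∀ (G : Type u) [Group G] [Finite G] (W X E : Subgroup G),
  Act n W X E → C[W].relIndex X + #W < m → F1c W X E

variable {G : Type u} [Group G] [Finite G] {A B D E E₀ K L R U V W W₀ X Y : Subgroup G} {x y e : G} {n : ℕ}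

/-- faithful action -/
structure Fa (n : ℕ) (W X : Subgroup G) : Prop where
  hyp : Hyp.{u} n
  ih : IH.{u} n (#X + #W)
  ab : Abelem 2 W
  nW : X ≤ N[W]
  fa : X ⊓ C[W] = ⊥
  t : ¬ 3 ∣ #X
  lt : #X < n

namespace Fa
variable (h : Fa n W X)
include h

theorem one (hx : x ∈ X) (c : x ∈ C[W]) : x = 1 := mem_bot.1 (h.fa ▸ mem_inf.2 ⟨hx, c⟩)
theorem pw : PiG {2} W := h.ab.pig p2

theorem sub (h1 : W₀ ≤ W) (h2 : Y ≤ X) (h3 : Y ≤ N[W₀]) (h4 : W₀ < W ∨ Y < X) (h5 : E ≤ Y)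
    (h6 : Abelem 2 E) : F1c W₀ Y E := by
  have d := (relIndex_dvd C[W₀] Y).trans (cardS h2)
  have l := Nat.le_of_dvd (card_pos _) (relIndex_dvd C[W₀] Y)
  refine h.ih G W₀ Y E ⟨h.ab.of_le h1, h3, h5, fun e he => h6.pow e he ▸ one_mem _,
    fun c => h.t (c.trans d), (Nat.le_of_dvd (card_pos _) d).trans_lt h.lt⟩ ?_
  have := card_le h1
  have := card_le h2
  rcases h4 with a | a <;> have := card_lt a <;> omega

theorem quot (h1 : W₀ ≤ W) (h2 : W₀ ≠ ⊥) (h3 : X ≤ N[W₀]) (h5 : E ≤ X) (h6 : Abelem 2 E) :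
    F1c (W ÷ W₀) (X ÷ W₀) (E ÷ W₀) := by
  have d := (relIndex_dvd C[W ÷ W₀] (X ÷ W₀)).trans (card_im_dvd X)
  have l := Nat.le_of_dvd (card_pos _) d
  refine h.ih _ _ _ _ ⟨h.ab.im _, im_norm h.nW, im_mono h5, fun e he => (h6.im _).pow e he ▸ one_mem _,
    fun c => h.t (c.trans d), l.trans_lt h.lt⟩ ?_
  have := card_quo_lt (abel_norm h.ab.abel h1) h1 h2
  omega

theorem red (h1 : W₀ < W) (h2 : W₀ ≠ ⊥) (h3 : X ≤ N[W₀]) (h5 : E ≤ X) (h6 : Abelem 2 E) :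
    O[{2}](X).relIndex E ^ 2 ≤ C[E].relIndex W := by
  obtain ⟨D, a1, a2, a3, a4⟩ := h.sub h1.le le_rfl h3 (Or.inl h1) h5 h6
  obtain ⟨D', b1, b2, b3, b4⟩ := h.quot (E := E ⊓ D) h1.le h2 h3 (inf_le_left.trans h5) (h6.of_le inf_le_left)
  have n0 := abel_norm h.ab.abel h1.le
  have c1 : D ⊓ (quo W₀).pre D' ≤ O[{2}](X) := by
    refine le_O (inf_le_left.trans a1) (normI a2 (norm_pre h3 b2)) (pig2_of fun x hx o => ?_)
    have x1 := a1 hx.1
    have c2 := cent_of_idx a3 (a1.trans h3) hx.1 o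
    have c3 := cent_of_idx b3 (b1.trans (im_norm h.nW)) (mem_pre.1 hx.2).2 (o.app (h3 x1))
    have c4 : ⁅W, zpowers x⁆ ≤ W₀ := by
      rw [← quo_cent_iff n0 (zpowers_le.2 (h3 x1)), centC, im_zpowers (φ := quo W₀) (h3 x1)]
      exact zpowers_le.2 c3
    exact h.one x1 (cent_symm (cop_stable (cop2 (h.pw.of_le h1.le) o) c4
      (cent_symm (zpowers_le.2 c2))) (mem_zpowers x))
  have c2 : O[{2}](X).relIndex E ≤ D'.relIndex ((E ⊓ D) ÷ W₀) * D.relIndex E := by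
    refine (idx_le (inf_le_left.trans c1)).trans ?_
    rw [idx_mul (inf_le_left.trans inf_le_left : _ ⊓ E ≤ D),
      ← relIndex_pre (φ := quo W₀) D' (inf_le_left.trans (h5.trans h3))]
    exact Nat.mul_le_mul_right _ (idx_le (le_inf (inf_le_right.trans inf_le_right) inf_le_left))
  calc _ ≤ _ := Nat.pow_le_pow_left c2 2
    _ = D.relIndex E ^ 2 * D'.relIndex ((E ⊓ D) ÷ W₀) ^ 2 := by ring
    _ ≤ _ := Nat.mul_le_mul a4 b4
    _ ≤ _ := idx_quo h1.le n0 inf_le_left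

end Fa

/-- the minimal configuration -/
structure Co (n : ℕ) (W X E : Subgroup G) : Prop extends Fa n W X where
  O : O[{2}](X) = ⊥
  cw : W ⊓ C[X] = ⊥
  le : E ≤ X
  ea : Abelem 2 E
  min : ∀ B < E, #B ^ 2 ≤ C[B].relIndex W
  bad : C[E].relIndex W < #E ^ 2

namespace Co
variable (h : Co n W X E)
include h

theorem pe : PiG {2} E := h.ea.pig p2

theorem ne : E ≠ ⊥ := fun e => by
  have := h.bad
  have := relIndex_pos C[E] W
  rw [e, card_bot'] at *; omega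

theorem m2 (h1 : Y < X) (h2 : E ≤ Y) : E ⊓ O[{2}](Y) ≠ ⊥ := fun e => by
  obtain ⟨D, a1, a2, a3, a4⟩ := h.sub le_rfl h1.le (h1.le.trans h.nW) (Or.inr h1) h2 h.ea
  have : D ≤ O[{2}](Y) := le_O a1 a2 (pig2_of fun x hx o => h.one (h1.le (a1 hx))
    (cent_of_idx a3 (a1.trans (h1.le.trans h.nW)) hx o))
  have := idx_le (D := D) (E := E) (A := ⊥) (e ▸ le_inf inf_le_right (inf_le_left.trans this))
  rw [relIndex_bot_left] at this
  exact h.bad.not_ge ((Nat.pow_le_pow_left this 2).trans a4)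

theorem m1 (h0 : E₀ ≠ ⊥) (h1 : E₀ < E) (h2 : E ≤ Y) (h3 : Y ≤ X) (h4 : Y ≤ C[E₀])
    (h5 : E ⊓ O[{2}](Y) ≤ E₀) : False := by
  have l0 := h1.le.trans h.le
  have l : W ⊓ C[E₀] < W := inf_lt_left.2 fun c => h0 (eq_bot_iff.2 (h.fa ▸ le_inf l0 (cent_symm c)))
  have n1 : Y ≤ N[W ⊓ C[E₀]] := normI (h3.trans h.nW) (normG _ |>.trans' h4)
  obtain ⟨D, a1, a2, a3, a4⟩ := h.sub l.le h3 n1 (Or.inl l) h2 h.ea
  have : D ≤ O[{2}](Y) := le_O a1 a2 (pig2_of fun x hx o => h.one (h3 (a1 hx)) (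
    pq_lemma (h.pw.sup_l (h.pe.of_le h1.le) (l0.trans h.nW)).nil le_sup_right le_sup_left
      (cent_symm (zpowers_le.2 (h4 (a1 hx)))) (cop2 h.pw o) (l0.trans h.nW)
      (zpowers_le.2 (h.nW (h3 (a1 hx)))) (cent_symm (zpowers_le.2 (cent_of_idx a3 (a1.trans n1) hx o)))
      (mem_zpowers x)))
  have i := idx_le (D := D) (E := E) ((le_inf inf_le_right (inf_le_left.trans this)).trans h5)
  refine h.bad.not_ge ?_
  rw [← card_mul_relIndex h1.le, idx_mul (inf_le_left.trans (centS h1.le)), mul_pow, mul_comm]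
  exact Nat.mul_le_mul ((Nat.pow_le_pow_left i 2).trans a4) (h.min _ h1)

theorem c1 : ¬ Cyc E := fun c => by
  have c2 : #E = 2 := ((Nat.dvd_prime p2).1 (h.ea.cyc_card p2 c)).resolve_left (one_lt_card h.ne).ne'
  obtain ⟨e, he, e1⟩ := exists_mem_ne_one h.ne
  have o := orderOf_of_pow p2 (h.ea.pow e he) e1
  obtain ⟨y, y1, y2, y3⟩ := Inv.s0200 (⟨e, h.le he⟩ : X) (by rw [← o, orderOf_mk]) fun N a b c => by
    have : N.map X.subtype ≤ O[{2}](X) := le_O (map_subtype_le _) (PLoc.le_normalizer_map_subtype N)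
      ((pig_of_pg p2 b).map _)
    exact e1 (mem_bot.1 (h.O ▸ this (mem_map_of_mem _ c)))
  obtain ⟨x, ⟨k, rfl⟩, hp⟩ := exists_prime_pow_mem y1
  have x3 : (⟨e, h.le he⟩ : X) * y ^ k * (⟨e, h.le he⟩ : X)⁻¹ = (y ^ k)⁻¹ := by
    rw [← conj_zpow, y3, inv_zpow]
  have x2 : Odd (orderOf (y ^ k)) := y2.of_dvd_nat (orderOf_dvd_of_mem_zpowers ⟨k, rfl⟩)
  simp only at hp
  generalize y ^ k = x at hp x2 x3
  obtain ⟨x, hx⟩ := x
  rw [orderOf_mk] at hp x2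
  replace x3 : e * x * e⁻¹ = x⁻¹ := congrArg Subtype.val x3
  have i1 : C[E].relIndex W ≤ 2 := by
    have := h.bad
    obtain ⟨k, hk⟩ := (pin_single p2 (relIndex_pos C[E] W).ne').1 (h.pw.relIndex C[E])
    rw [c2, hk, Nat.pow_lt_pow_iff_right one_lt_two] at this
    rw [hk]; interval_cases k <;> simp
  have i2 : C[cj x E].relIndex W ≤ 2 := by
    rwa [← cj_C, ← cj_of_mem_N (h.nW hx), relIndex_cj]
  have i3 : C[zpowers x].relIndex W ≤ 4 := by
    refine (idx_le (D := C[E] ⊓ C[cj x E]) (inf_le_left.trans ?_)).trans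
      (relIndex_inf_le.trans (Nat.mul_le_mul i1 i2))
    rw [← C_sup]
    obtain ⟨m, hm⟩ := Inv.exists_sqrt_of_odd x2
    refine centS (zpowers_le.2 ?_)
    have : x * x = (x * e * x⁻¹) * e⁻¹ := by
      calc x * x = x * (e * x * e⁻¹)⁻¹⁻¹⁻¹ := by rw [x3]; group
        _ = _ := by group
    have := pow_mem (this ▸ mul_mem (mem_sup_right (mem_cj_conj.2 he)) (mem_sup_left (inv_mem he)) :
      x * x ∈ E ⊔ cj x E) m
    rwa [(Commute.refl x).mul_pow, hm] at this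
  have i4 := (pig_of_card' hp (card_zpowers' x)).card_modEq hp (zpowers_le.2 (h.nW hx))
  have i5 := card_inf_mul_relIndex C[zpowers x] W
  rw [inf_comm] at i5
  have i6 : C[zpowers x].relIndex W ≠ 1 := fun c => by
    have := h.one hx (cent_symm (relIndex_eq_one.1 c) (mem_zpowers x))
    rw [this, orderOf_one] at hp; exact Nat.not_prime_one hp
  obtain ⟨j, hj⟩ := (pin_single p2 (relIndex_pos C[zpowers x] W).ne').1 (h.pw.relIndex C[zpowers x])
  obtain ⟨l, hl⟩ := (h.pw.of_le (inf_le_left : W ⊓ C[zpowers x] ≤ W)).card_pow p2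
  have i7 : orderOf x ∣ C[zpowers x].relIndex W - 1 := by
    rw [← i5] at i4
    have := (Nat.modEq_iff_dvd' (Nat.le_mul_of_pos_right _ (relIndex_pos _ _))).1 i4.symm
    rw [← Nat.mul_sub_one, hl] at this
    exact (Nat.Coprime.pow_right l x2.coprime_two_right).dvd_of_dvd_mul_left this
  have i8 : j ≤ 2 := by rwa [hj, show 4 = 2 ^ 2 from rfl, Nat.pow_le_pow_iff_right one_lt_two] at i3
  rw [hj] at i6 i7
  interval_cases j
  · simp at i6
  · exact hp.one_lt.ne' (by simpa using i7)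
  · exact h.t (((Nat.prime_dvd_prime_iff_eq hp Nat.prime_three).1 i7) ▸ orderOf_dvd hx)

theorem m3 (h1 : R ≤ X) (h2 : PiG {2}ᶜ R) (h3 : E ≤ N[R]) : R ≤ C[E] := by
  by_contra c
  obtain ⟨B, -, ⟨b1, b2⟩, b3⟩ := exists_maximal (P := fun B => B ≤ E ∧ ¬ R ⊓ C[B] ≤ C[E]) (A := ⊥)
    ⟨bot_le, by rwa [C_bot, inf_top_eq]⟩
  have c1 := h.pe.coprime h2
  by_cases b0 : B = ⊥
  · refine c (cop_gen_cent1 h.ea.abel h.c1 h3 c1 fun a ha a1 => by_contra fun d => a1 ?_)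
    exact zpowers_eq_bot.1 ((b3 _ ⟨zpowers_le.2 ha, by rwa [C_zpowers]⟩ (b0 ▸ bot_le)).trans b0)
  have n1 : E ≤ N[R ⊓ C[B]] := normI h3 (normC (abel_norm h.ea.abel b1))
  refine h.m1 b0 (lt_of_le_of_ne b1 fun e => b2 (e ▸ inf_le_right)) (Y := R ⊓ C[B] ⊔ E) le_sup_right
    (sup_le (inf_le_left.trans h1) h.le) (sup_le inf_le_right (centSS h.ea.abel le_rfl b1)) ?_
  have c2 : O[{2}](R ⊓ C[B] ⊔ E) ≤ C[R ⊓ C[B]] := (O_pig _ _).cent (h2.of_le inf_le_left)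
    ((O_le _ _).trans (sup_le (normG _) n1)) (le_sup_left.trans (O_norm _ _))
  refine le_sup_right.trans (b3 (B ⊔ E ⊓ O[{2}](R ⊓ C[B] ⊔ E)) ⟨sup_le b1 inf_le_left, fun d => b2 ?_⟩
    le_sup_left).le
  exact (le_inf inf_le_left (centY inf_le_right (cent_symm (inf_le_right.trans c2)))).trans d

end Co

end Cfsg.Agent.S3F
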