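import Cfsg.Agent.S3F.F1a

/-! # `3'`-groups acting on elementary abelian `2`-groups: the theorem -/

set_option autoImplicit false
set_option linter.unusedVariables false
set_option linter.unusedSectionVars false

namespace Cfsg.Agent.S3F
open Cfsg Cfsg.Agent.BG Subgroup PHom Cfsg.Agent.Fac
open Cfsg.Agent.Comp (QS CompIn Fit FStar)

universe u

variable {G : Type u} [Group G] [Finite G] {A B D E E₀ K L R U V W W₀ X Y : Subgroup G} {x y e : G} {n : ℕ}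

theorem pie_odd {p : ℕ} (hp : p ≠ 2) (h : PiG {p} A) (hx : x ∈ A) : PiE {2}ᶜ x := (h.elt hx).ne_compl hp

theorem odd_central (h : QS L) (h1 : ∀ k ∈ L, PiE {2}ᶜ k → k ∈ C[L]) : False := by
  obtain ⟨P, hP⟩ := syl_exists p2 L
  refine h.not_le_solvable (hP.pi.sol.sup_r (abel_Z L).sol (normZ (normsG hP.le))) (le_of_syl fun p hp _ => ?_)
  by_cases e : p = 2
  · exact ⟨P, e ▸ hP, le_sup_left⟩
  obtain ⟨Q, hQ⟩ := syl_exists hp L
  exact ⟨Q, hQ, fun x hx => mem_sup_right ⟨hQ.le hx, h1 x (hQ.le hx) (pie_odd e hQ.pi hx)⟩⟩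

theorem O_cent_comp (h : CompIn L Y) : O[{2}](Y) ≤ C[L] :=
  comm_eq_bot'.1 (h.comm_of_solvable (O_le _ _) (O_pig _ _).sol (h.le.trans (O_norm _ _)))

theorem card_ne_one (A : Subgroup G) : Nat.card {w // w ∈ A ∧ w ≠ 1} + 1 = #A := by
  change ((A : Set G) \ {1}).ncard + 1 = (A : Set G).ncard
  exact Set.ncard_sdiff_singleton_add_one (one_mem A)

namespace Co
variable (h : Co n W X E)
include h

theorem odd_nil (h1 : R ≤ X) (h2 : X ≤ N[R]) (h3 : Nil R) : PiG {2}ᶜ R :=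
  (h3.hall_O {2}).eq_bot_iff.1 (eq_bot_iff.2 (h.O ▸ O_le_of_normal _ h1 h2))

theorem comp : ∃ L, CompIn L X ∧ ¬ L ≤ C[E] := by
  by_contra c
  push Not at c
  have o := h.odd_nil Comp.Fit_le (Comp.Fit_normal X) (Comp.Fit_nilpotent X)
  have : FStar X ≤ C[E] := sup_le (Comp.Lay_le_iff.2 c) (h.m3 Comp.Fit_le o (h.le.trans (Comp.Fit_normal X)))
  exact h.ne (h.pe.eq_bot (o.of_le ((le_inf h.le (cent_symm this)).trans (Comp.centralizer_FStar_le_Fit X))))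

variable (hL : CompIn L X) (h0 : ¬ L ≤ C[E])
include hL h0

theorem m4 : E ⊓ C[L] = ⊥ := by
  by_contra c
  have l : L ≤ X ⊓ C[E ⊓ C[L]] := le_inf hL.le (cent_symm inf_le_right)
  exact h.m1 c (inf_lt_left.2 fun d => h0 (cent_symm d)) (le_inf h.le (centSS h.ea.abel le_rfl inf_le_left))
    inf_le_left inf_le_right (inf_le_inf_left _ (O_cent_comp (hL.restrict l inf_le_left)))

theorem m5 : E ≤ N[L] := fun e he => by
  by_contra c
  rw [mem_N_iff_cj] at c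
  have cp : ∀ f ∈ E, CompIn (cj f L) X := fun f hf => hL.conj (normG X (h.le hf))
  have cc : ∀ {A B}, CompIn A X → CompIn B X → A ≠ B → A ≤ C[B] := fun a b d =>
    comm_eq_bot.1 ((a.eq_or_comm b).resolve_left d)
  have c1 := cc (cp e he) hL c
  have e2 : e * e = 1 := sq e ▸ h.ea.pow e he
  have ce : ∀ f ∈ E, f * e = e * f := fun f hf => mem_C_comm h.ea.abel hf he
  have ee : cj e (cj e L) = L := by rw [← cj_mul, e2, cj_one]
  have m : ∀ k ∈ L, e * k * e⁻¹ ∈ C[L] := fun k hk => c1 (mem_cj_conj.2 hk)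
  set Y := X ⊓ C[zpowers e] with hY
  have d1 : ∀ k ∈ L, k * (e * k * e⁻¹) ∈ Y := fun k hk => by
    refine ⟨mul_mem (hL.le hk) (conj_mem (normG X (h.le he)) (hL.le hk)), ?_⟩
    show _ ∈ C[zpowers e]
    rw [C_zpowers, mem_C1, m k hk k hk]
    calc e * k * e⁻¹ * k * e = e * k * (e * e)⁻¹ * (e * k * e⁻¹) * (e * e) := by group
      _ = e * (k * (e * k * e⁻¹)) := by rw [e2]; group
      _ = _ := by rw [m k hk k hk]
  have d2 : ∀ k ∈ L, ∀ l ∈ L, k * l * (e * (k * l) * e⁻¹) = k * (e * k * e⁻¹) * (l * (e * l * e⁻¹)) :=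
    fun k hk l hl => by
      calc _ = k * (l * (e * k * e⁻¹)) * (e * l * e⁻¹) := by group
        _ = _ := by rw [m k hk l hl]; group
  have d3 : ∀ k ∈ L, k⁻¹ * (e * k⁻¹ * e⁻¹) = (k * (e * k * e⁻¹))⁻¹ := fun k hk =>
    eq_inv_of_mul_eq_one_left (by rw [← d2 _ (inv_mem hk) _ hk]; simp)
  have d4 : ∀ k ∈ L, PiE {2}ᶜ k → PiE {2}ᶜ (k * (e * k * e⁻¹)) := fun k hk o =>
    o.mul (pie_conj.2 o) (m k hk k hk)
  have d5 : ∀ k ∈ L, k * (e * k * e⁻¹) ∈ C[L] → k ∈ C[L] := fun k hk a => by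
    have := mul_mem a (inv_mem (m k hk))
    rwa [mul_inv_cancel_right] at this
  have d6 : ∀ f ∈ O[{2}](Y), ∀ y ∈ Y, f * y * f⁻¹ * y⁻¹ ∈ O[{2}](Y) := fun f hf y hy => by
    simpa [mul_assoc] using mul_mem hf (conj_mem (O_norm _ Y hy) (inv_mem hf))
  have key : E ⊓ O[{2}](Y) ⊓ N[L] ≤ ⊥ := by
    let R : Subgroup G :=
      { carrier := {k | k ∈ L ∧ k * (e * k * e⁻¹) ∈ O[{2}](Y)}
        one_mem' := ⟨one_mem _, by simp⟩
        mul_mem' := fun {k l} a b => ⟨mul_mem a.1 b.1, d2 k a.1 l b.1 ▸ mul_mem a.2 b.2⟩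
        inv_mem' := fun {k} a => ⟨inv_mem a.1, d3 k a.1 ▸ inv_mem a.2⟩ }
    rcases hL.qs.normal R (fun _ a => a.1) (le_N_iff.2 fun l hl k hk => ⟨conj_mem (normG L hl) hk.1, by
      rw [d2 _ (mul_mem hl hk.1) _ (inv_mem hl), d2 _ hl _ hk.1, d3 _ hl]
      exact conj_mem (O_norm _ Y (d1 l hl)) hk.2⟩) with a | a
    · exact (odd_central hL.qs fun k hk o => d5 k hk (by
        rw [((O_pig _ _).elt (a.ge hk).2).eq_one (d4 k hk o)]; exact one_mem _)).elim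
    rw [← h.m4 hL h0]
    refine le_inf (inf_le_left.trans inf_le_left) (comm_eq_bot.1 (Comp.comm_bot_of_perfect hL.qs.perfect
      (Comp.comm_bot_mono a (comm_le_iff.2 fun f hf k hk => ?_) le_rfl)))
    have k1 := conj_mem hf.2 hk
    refine ⟨mul_mem k1 (inv_mem hk), ?_⟩
    rw [d2 _ k1 _ (inv_mem hk), d3 _ hk]
    convert d6 f hf.1.2 _ (d1 k hk) using 2
    calc _ = f * k * (f⁻¹ * (e * f)) * k * (e * f)⁻¹ := by group
      _ = _ := by rw [← ce f hf.1.1]; nth_rw 2 [ce f hf.1.1]; rw [← ce f hf.1.1]; group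
  have eY : E ≤ Y := le_inf h.le (centSS h.ea.abel le_rfl (zpowers_le.2 he))
  have eO : e ∈ O[{2}](Y) := le_O (zpowers_le.2 (eY he)) (cents_norm inf_le_right)
    (h.pe.of_le (zpowers_le.2 he)) (mem_zpowers e)
  refine h.m1 (E₀ := zpowers e) (fun d => c (by rw [zpowers_eq_bot.1 d, cj_one]))
    (lt_of_le_of_ne (zpowers_le.2 he) fun d => h.c1 (d ▸ cyc_zpowers e)) eY inf_le_left inf_le_right
    fun f hf => ?_
  by_cases a1 : cj f L = L
  · rw [mem_bot.1 (key ⟨hf, mem_N_iff_cj.2 a1⟩)]; exact one_mem _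
  by_cases a2 : cj f L = cj e L
  · have := mem_bot.1 (key (x := e * f) ⟨⟨mul_mem he hf.1, mul_mem eO hf.2⟩, mem_N_iff_cj.2 (by
      rw [cj_mul, a2, ee])⟩)
    rw [eq_inv_of_mul_eq_one_right this]; exact inv_mem (mem_zpowers e)
  have a3 : cj (e * f) L ≠ L := fun d => a2 (by rw [← cj_eq_cj (g := e), ← cj_mul, d, ee])
  have a4 : cj (e * f) L ≠ cj e L := fun d => a1 (by rwa [cj_mul, cj_eq_cj] at d)
  refine (odd_central hL.qs fun k hk o => d5 k hk ?_).elim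
  have b1 : ∀ {A}, CompIn A X → cj f L ≠ A → cj (e * f) L ≠ A → f * (k * (e * k * e⁻¹)) * f⁻¹ ∈ C[A] :=
    fun a b d => by
      have := mul_mem (cc (cp f hf.1) a b (mem_cj_conj.2 hk))
        (cc (cp _ (mul_mem he hf.1)) a d (mem_cj_conj.2 hk))
      convert this using 1
      rw [← ce f hf.1]; group
  have b2 := b1 hL a1 a3
  have b3 := b1 (cp e he) a2 a4
  have b4 : f * (k * (e * k * e⁻¹)) * f⁻¹ ∈ C1[k * (e * k * e⁻¹)] := by
    have := C_le_C1 (mul_mem_sup' hk (mem_cj_conj.2 hk : e * k * e⁻¹ ∈ cj e L))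
    exact this (C_sup L _ ▸ mem_inf.2 ⟨b2, b3⟩)
  have b5 := ((O_pig _ _).elt (d6 f hf.2 _ (d1 k hk))).eq_one
    ((pie_conj.2 (d4 k hk o)).mul (d4 k hk o).inv (mem_C1.1 (C1_inv (k * (e * k * e⁻¹)) ▸ b4)))
  rwa [← mul_inv_eq_one.1 b5]

theorem eqX : L ⊔ E = X := by
  by_contra c
  have l := sup_le hL.le h.le
  exact h.m2 (lt_of_le_of_ne l c) le_sup_right (eq_bot_iff.2 (h.m4 hL h0 ▸
    inf_le_inf_left _ (O_cent_comp (hL.restrict le_sup_left l))))

theorem nL : X ≤ N[L] := h.eqX hL h0 ▸ sup_le (normG L) (h.m5 hL h0)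

theorem cL : X ⊓ C[L] ≤ L := by
  have o : ∀ A ≤ X, PiG {2}ᶜ A → A ≤ L := fun A a b => b.le_of_idx (h.nL hL h0) a (by
    rw [← h.eqX hL h0, relIndex_sup_l (h.m5 hL h0)]; exact (h.pe.relIndex L).compl_compl)
  obtain ⟨P, hP⟩ := syl_exists p2 (X ⊓ C[L])
  have : X ⊓ C[L] ≤ N[P] := le_of_syl fun p hp _ => by
    by_cases e : p = 2
    · exact ⟨P, e ▸ hP, normG P⟩
    obtain ⟨Q, hQ⟩ := syl_exists hp (X ⊓ C[L])
    exact ⟨Q, hQ, cents_norm ((o Q (hQ.le.trans inf_le_left) (hQ.pi.ne_compl e)).trans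
      (cent_symm (hP.le.trans inf_le_right)))⟩
  refine o _ inf_le_left (hP.eq_bot_iff.1 (eq_bot_iff.2 ?_))
  rw [hP.eq_O this, ← h.O]
  exact O_le_of_normal _ inf_le_left (normI (normG X) (normC (h.nL hL h0)))

theorem sz : Sz (L ⧸ center L) := by
  obtain ⟨a, b⟩ := Comp.qs_iff.1 hL.qs
  have d : Nat.card (L ⧸ center L) ∣ #X := (card_quotient_dvd_card _).trans (cardS hL.le)
  refine h.hyp _ (fun c => hL.qs.not_solvable ?_) (fun c => h.t (c.trans d))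
    ((Nat.le_of_dvd (card_pos _) d).trans_lt h.lt)
  have : Group.IsNilpotent L := Group.of_quotient_center_nilpotent CommGroup.isNilpotent
  infer_instance

theorem leL : E ≤ L := fun e he => by
  have n := h.m5 hL h0 he
  obtain ⟨y, hy⟩ := (h.sz hL h0).out (Comp.normAut L ⟨e, n⟩) fun x => by
    rw [← MulAut.mul_apply, ← map_mul, show (⟨e, n⟩ * ⟨e, n⟩ : N[L]) = 1 from
      Subtype.ext ((sq e).symm.trans (h.ea.pow e he)), map_one, MulAut.one_apply]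
  obtain ⟨l, rfl⟩ := QuotientGroup.mk_surjective y
  have : Comp.normAut L (⟨l, normG L l.2⟩⁻¹ * ⟨e, n⟩) = 1 := by
    rw [map_mul, map_inv, inv_mul_eq_one, Comp.normAut_of_mem]
    exact MulEquiv.ext fun x => (hy x).symm
  have := h.cL hL h0 (mem_inf.2 ⟨mul_mem (inv_mem (hL.le l.2)) (h.le he),
    (Comp.normAut_eq_one_iff hL.qs.perfect _).1 this⟩)
  simpa using mul_mem l.2 this

theorem fin : False := by
  have el := h.leL hL h0
  have lx : L = X := by rw [← h.eqX hL h0, sup_eq_left.2 el]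
  obtain ⟨H, S, hH⟩ := (h.sz hL h0).act
  set φ := mquo L (center L) with hφ
  have k : E ⊓ φ.ker = ⊥ := eq_bot_iff.2 (h.m4 hL h0 ▸ inf_le_inf_left _ (by
    rw [mquo_ker, Comp.center_map_subtype]; exact inf_le_right))
  have b := hH _ (h.ea.im φ)
  rw [card_im_inj el k] at b
  have o : ∀ e ∈ E, e ≠ 1 → orderOf (φ.app e) = 2 := fun e he e1 =>
    orderOf_of_pow p2 ((h.ea.im φ).pow _ (app_mem_im he (el he))) fun c =>
      e1 (mem_bot.1 (k ▸ mem_inf.2 ⟨he, mem_ker.2 ⟨el he, c⟩⟩))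
  obtain ⟨e₀, he₀, e1⟩ := exists_mem_ne_one h.ne
  obtain ⟨a, ha⟩ := S.ex _ (o e₀ he₀ e1)
  have fx : ∀ e ∈ E, φ.app e • a = a := fun e he => S.fix_of_comm (o e₀ he₀ e1) ha
    (mem_C_comm (h.ea.im φ).abel (app_mem_im he (el he)) (app_mem_im he₀ (el he₀)))
  have gen : ∀ x ∈ L, φ.app x • a ≠ a → E ⊔ cj x E = X := fun x hx c => by
    by_contra d
    obtain ⟨e, he, e1⟩ := exists_mem_ne_one (h.m2 (lt_of_le_of_ne
      (sup_le h.le (cj_le_of_mem h.le (normG X (hL.le hx)))) d) le_sup_left)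
    have a1 : x * e * x⁻¹ ∈ cj x E := mem_cj_conj.2 he.1
    have a2 : PiE {2} (e * (x * e * x⁻¹)) := ((O_pig {2} _).sup_l (h.pe.cj x)
      (le_sup_right.trans (O_norm _ (E ⊔ cj x E)))).elt (mul_mem_sup' he.2 a1)
    have a3 := a2.app (φ := φ) (mul_mem (el he.1) (conj_mem (normG L hx) (el he.1)))
    rw [app_mul (φ := φ) (el he.1) (conj_mem (normG L hx) (el he.1)), app_conj (φ := φ) hx (el he.1)] at a3
    have a4 := SE.ord_conj (o e he.1 e1) (φ.app x)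
    have a5 : (φ.app x * φ.app e * (φ.app x)⁻¹) • φ.app x • a = φ.app x • a := by
      rw [mul_smul, inv_smul_smul, mul_smul, fx e he.1]
    have a6 := a3.eq_one ((pin_compl p2).2 (S.odd_mul (o e he.1 e1) (fx e he.1) a4 a5 (Ne.symm c)).not_two_dvd_nat)
    rw [← (eq_inv_of_mul_eq_one_left a6).trans (Inv.inv_of_ord2 a4)] at a5
    exact c (S.uniq (o e he.1 e1) a5 (fx e he.1))
  have tr : ∀ ω : (L ⧸ center L) ⧸ H, ∃ g ∈ L, φ.app g • a = ω := fun ω => by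
    obtain ⟨y, hy⟩ := MulAction.exists_smul_eq (L ⧸ center L) a ω
    obtain ⟨g, hg, rfl⟩ := (mem_im' (φ := φ) le_rfl).1 ((mquo_top L (center L)).ge (mem_top y))
    exact ⟨g, hg, hy⟩
  choose g g1 g2 using tr
  let f : ((L ⧸ center L) ⧸ H) × {w // w ∈ W ⊓ C[E] ∧ w ≠ 1} → {w // w ∈ W ∧ w ≠ 1} := fun p =>
    ⟨g p.1 * p.2 * (g p.1)⁻¹, conj_mem (h.nW (hL.le (g1 _))) p.2.2.1.1, by simpa using p.2.2.2⟩
  have fi : Function.Injective f := by
    rintro ⟨ω, w, w1, w2⟩ ⟨ω', w', w1', w2'⟩ e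
    replace e : g ω * w * (g ω)⁻¹ = g ω' * w' * (g ω')⁻¹ := congrArg Subtype.val e
    have : ω = ω' := by
      by_contra c
      have := gen _ (mul_mem (inv_mem (g1 ω)) (g1 ω')) (by
        rw [app_mul (φ := φ) (inv_mem (g1 ω)) (g1 ω'), app_inv (φ := φ) (g1 ω), mul_smul, g2, Ne,
          inv_smul_eq_iff, g2]; exact Ne.symm c)
      refine w2 (mem_bot.1 (h.cw ▸ mem_inf.2 ⟨w1.1, ?_⟩))
      rw [← this, C_sup, ← cj_C]
      refine mem_inf.2 ⟨w1.2, mem_cj.2 ?_⟩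
      convert (mem_inf.1 w1').2 using 1
      calc _ = (g ω')⁻¹ * (g ω * w * (g ω)⁻¹) * g ω' := by group
        _ = _ := by rw [e]; group
    subst this
    simpa using e
  have c1 := Nat.card_le_card_of_injective f fi
  have c2 := card_ne_one W
  have c3 := card_ne_one (W ⊓ C[E])
  have c4 := card_inf_mul_relIndex C[E] W
  have c5 := one_lt_card (h.pw.meet_C h.pe (h.le.trans h.nW) fun c => h.ne
    (eq_bot_iff.2 (h.fa ▸ le_inf h.le (by rw [c, C_bot]; exact le_top))))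
  have c6 : 2 * C[E].relIndex W ≤ #E ^ 2 := by
    obtain ⟨j, hj⟩ := (pin_single p2 (relIndex_pos C[E] W).ne').1 (h.pw.relIndex C[E])
    obtain ⟨l, hl⟩ := h.pe.card_pow p2
    have := h.bad
    rw [hj, hl, ← pow_mul, Nat.pow_lt_pow_iff_right one_lt_two] at this
    rw [hj, hl, ← pow_mul, ← pow_succ']; exact Nat.pow_le_pow_right two_pos this
  rw [Nat.card_prod] at c1
  rw [inf_comm] at c4
  generalize Nat.card {w // w ∈ W ⊓ C[E] ∧ w ≠ 1} = c at *
  rw [← c3] at c4 c5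
  have := Nat.mul_le_mul_right c (c6.trans_lt b)
  have := Nat.mul_le_mul_right (C[E].relIndex W) (show 1 ≤ c by omega)
  nlinarith

end Co

theorem Fa.core (h : Fa n W X) (h5 : E ≤ X) (h6 : Abelem 2 E) :
    O[{2}](X).relIndex E ^ 2 ≤ C[E].relIndex W := by
  by_cases x0 : X = ⊥
  · rw [relIndex_eq_one.2 (h5.trans (x0.le.trans bot_le))]; exact relIndex_pos _ _
  by_cases r : ∃ W₀ < W, W₀ ≠ ⊥ ∧ X ≤ N[W₀]
  · obtain ⟨W₀, a, b, c⟩ := r
    exact h.red a b c h5 h6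
  push Not at r
  have k : ∀ D ≤ X, X ≤ N[D] → W ⊓ C[D] ≠ ⊥ → D = ⊥ := fun D a b c => by
    by_contra d
    exact r _ (inf_lt_left.2 fun e => d (eq_bot_iff.2 (h.fa ▸ le_inf a (cent_symm e)))) c
      (normI h.nW (normC b))
  have w0 : W ≠ ⊥ := fun c => x0 (by have := h.fa; rwa [c, C_bot, inf_top_eq] at this)
  have o : O[{2}](X) = ⊥ := k _ (O_le _ _) (O_norm _ _)
    (h.pw.meet_C (O_pig _ _) ((O_le _ _).trans h.nW) w0)
  rw [o, relIndex_bot_left]
  revert h5 h6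
  refine lt_wf_ind (P := fun E => E ≤ X → Abelem 2 E → #E ^ 2 ≤ C[E].relIndex W) (fun E ih a b => ?_) E
  by_contra c
  have : Co n W X E := ⟨h, o, by_contra fun d => x0 (k X le_rfl (normG X) d), a, b,
    fun B l => ih B l (l.le.trans a) (b.of_le l.le), not_le.1 c⟩
  obtain ⟨L, l1, l2⟩ := this.comp
  exact this.fin l1 l2

theorem ih_all (hy : Hyp.{u} n) (m : ℕ) : IH.{u} n m := by
  induction m with
  | zero => exact fun _ _ _ _ _ _ _ c => absurd c (Nat.not_lt_zero _)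
  | succ m ih =>
  intro G _ _ W X E h c
  obtain ⟨Γ, _, _, ψ, θ, k⟩ := exists_holP W
  have d : X ≤ ψ.dom := k.dom ▸ h.nW
  have c1 : #(ψ.im X) = C[W].relIndex X := by rw [card_im d, k.ker]
  have f : Fa n (θ.im W) (ψ.im X) := ⟨hy, fun G _ _ W X E a b => ih G W X E a (by
      rw [c1, k.card le_rfl] at b; omega), h.ab.im _, (k.norm_iff h.nW le_rfl).2 h.nW, k.faith h.nW,
    c1 ▸ h.t, c1 ▸ h.lt⟩
  have := f.core (im_mono h.le) (abelem_of_sq fun x hx => by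
    obtain ⟨e, he, rfl⟩ := (mem_im' (h.le.trans d)).1 hx
    rw [← app_pow (d (h.le he))]; exact (mem_ker.1 (k.ker ▸ h.sq e he)).2)
  refine ⟨ψ.pre O[{2}](ψ.im X) ⊓ X, inf_le_right, normI (norm_pre d (O_norm _ _)) (normG X), ?_, ?_⟩
  · rw [← k.ker, ← pig_im_iff (inf_le_right.trans d), im_pre_inf (O_le _ _)]; exact O_pig _ _
  · rw [← relIndex_pre _ (h.le.trans d)] at this
    refine (Nat.pow_le_pow_left (idx_le (inf_le_inf_left _ h.le)) 2).trans (this.trans_eq ?_)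
    have e1 := card_inf_mul_relIndex C[ψ.im E] (θ.im W)
    have e2 := card_inf_mul_relIndex C[E] W
    rw [inf_comm, ← k.im_C (h.le.trans h.nW), k.card le_rfl, k.card inf_le_left, ← e2, inf_comm] at e1
    exact Nat.eq_of_mul_eq_mul_left (card_pos _) e1

/-- the main theorem on modules -/
theorem f1 (hy : Hyp.{u} n) (h : Act n W X E) : F1c W X E := ih_all hy _ G W X E h (Nat.lt_succ_self _)

end Cfsg.Agent.S3F
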