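import Cfsg.Agent.S3F.LL

/-! # Control of fusion by an admissible subgroup -/

set_option autoImplicit false
set_option linter.unusedVariables false
set_option linter.unusedSectionVars false

namespace Cfsg.Agent.S3F
open Cfsg Cfsg.Agent.BG Subgroup PHom
open Cfsg.Agent.PLoc (JOf maxEA pResOf)

universe u

variable {G : Type u} [Group G] [Finite G] {A B D E H K L M N P Q R S T U V W W₀ X Y Z : Subgroup G}
  {g h x y e : G} {m n : ℕ}

/-- conjugation by `g` on `A` is induced from `M` -/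
def Re (M A : Subgroup G) (g : G) : Prop := ∃ y ∈ M, y⁻¹ * g ∈ C[A]

theorem Re.of_mem (A : Subgroup G) (a : g ∈ M) : Re M A g := ⟨g, a, by simp⟩
theorem Re.mono (a : Re M B g) (b : A ≤ B) : Re M A g := a.imp fun _ c => ⟨c.1, centS b c.2⟩
theorem Re.mono' (a : Re M A g) (b : M ≤ L) : Re L A g := a.imp fun _ c => ⟨b c.1, c.2⟩
theorem Re.congr (a : Re M A g) (b : g⁻¹ * h ∈ C[A]) : Re M A h :=
  a.imp fun y c => ⟨c.1, by simpa [mul_assoc] using mul_mem c.2 b⟩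
theorem Re.mul (a : Re M A g) (b : Re M (cj g A) h) : Re M A (h * g) := by
  obtain ⟨y, y1, y2⟩ := a
  obtain ⟨z, z1, z2⟩ := b
  rw [← cj_C, mem_cj] at z2
  exact ⟨z * y, mul_mem z1 y1, by convert mul_mem y2 z2 using 1; group⟩
theorem Re.inv (a : Re M A g) : Re M (cj g A) g⁻¹ := by
  obtain ⟨y, y1, y2⟩ := a
  exact ⟨y⁻¹, inv_mem y1, by rw [← cj_C, mem_cj]; convert inv_mem y2 using 1; group⟩
theorem Re.conj (a : Re M A h) (b : Re M (cj g A) h) (c : Re M (cj h A) (h * g * h⁻¹)) : Re M A g := by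
  have := (a.mul c).mul (h := h⁻¹) (by rw [inv_mul_cancel_right, cj_mul]; exact b.inv)
  rwa [inv_mul_cancel_right, inv_mul_cancel_left] at this
theorem cj_eq_of (a : y⁻¹ * g ∈ C[A]) : cj y A = cj g A := by
  rw [← mul_inv_cancel_left y g, cj_mul, cj_of_mem_C a]

theorem cj_J (g : G) (T : Subgroup G) : cj g (JOf 2 T) = JOf 2 (cj g T) := PLoc.cj_JOf g T
theorem normJ (a : X ≤ N[T]) : X ≤ N[JOf 2 T] := a.trans (PLoc.normalizer_le_normalizer_JOf T)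

/-- admissible subgroups -/
structure Adm (H S V : Subgroup G) : Prop where
  ab : Abelem 2 V
  vS : V ≤ S
  vJ : V ≤ C[JOf 2 S]
  nJ : H ⊓ N[JOf 2 S] ≤ N[V]
  fv : FV V S

theorem Adm.mono (a : Adm H S V) (b : K ≤ H) : Adm K S V :=
  ⟨a.ab, a.vS, a.vJ, (inf_le_inf_right _ b).trans a.nJ, a.fv⟩

theorem Adm.nS (a : Adm H S V) (b : S ≤ H) : S ≤ N[V] := (le_inf b (normJ (normG S))).trans a.nJ

theorem Adm.im {G' : Type u} [Group G'] [Finite G'] {φ : PHom G G'} (a : Adm H S V) (b : Syl 2 S H)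
    (c : H ≤ φ.dom) (d : φ.ker ≤ H) (o : PiG {2}ᶜ φ.ker) : Adm (φ.im H) (φ.im S) (φ.im V) := by
  have sd := b.le.trans c
  have k := b.pi.inf_bot o
  have j : φ.im (JOf 2 S) = JOf 2 (φ.im S) := by
    obtain ⟨S', rfl⟩ := exists_lift sd
    rw [← PLoc.map_JOf_inj φ.dom.subtype_injective, im_map, im_map]
    exact PLoc.map_JOf fun x hx e => Subtype.ext (mem_bot.1 (k ▸ mem_inf.2
      ⟨mem_map_of_mem _ hx, mem_ker.2 ⟨x.2, (app_coe x).trans e⟩⟩))
  have i : ∀ A ≤ S, ∀ B ≤ S, B ≤ φ.pre C[φ.im A] → B ≤ C[A] := fun A a B b c =>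
    comm_eq_bot.1 (eq_bot_iff.2 (k ▸ le_inf (comm_le b a)
      ((cent_im_iff (b.trans sd) (a.trans sd)).1 ((le_pre_iff (b.trans sd)).1 c))))
  refine ⟨a.ab.im _, im_mono a.vS, j ▸ im_cent a.vJ, ?_, fun E e1 e2 => ?_⟩
  · have pj := b.pi.of_le (PLoc.JOf_le (e := 2) S)
    rw [← j, ← im_IN_cop ((PLoc.JOf_le S).trans sd) c d (pj.coprime o) (Or.inl pj.sol)]
    exact im_norm a.nJ
  · obtain ⟨E, l, -, rfl⟩ := exists_im_eq' e1
    have := a.fv E l fun e he => zpowers_le.1 (i V a.vS _ (zpowers_le.2 (pow_mem (l he) 2)) (zpowers_le.2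
      (mem_pre.2 ⟨sd (pow_mem (l he) 2), app_pow (sd (l he)) 2 ▸ e2 _ (app_mem_im he (sd (l he)))⟩)))
    rw [← relIndex_pre _ (l.trans sd), ← relIndex_pre _ (a.vS.trans sd)]
    exact (Nat.pow_le_pow_left (idx_le ((le_pre_iff (inf_le_right.trans (l.trans sd))).2
      (im_cent inf_le_left))) 2).trans (this.trans (idx_le (i E l _ (inf_le_right.trans a.vS) inf_le_left)))

theorem exists_adm (hy : Hyp.{u} n) (t : ¬ 3 ∣ #H) (l : #H ≤ n) (s : Syl 2 S H) :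
    ∃ V, Adm H S V ∧ Ω[2](Z[S]) ≤ V := by
  have sM : S ≤ H ⊓ N[JOf 2 S] := le_inf s.le (normJ (normG S))
  have l1 : NC (H ⊓ N[JOf 2 S]) Ω[2](Z[S]) ≤ PLoc.ZJOf 2 S := NC_le' (PLoc.omegaOne_center_le_ZJOf S)
    (inf_le_right.trans (PLoc.normalizer_JOf_le_normalizer_ZJOf S))
  have ea := (abelem_iff.2 (PLoc.isEA_ZJOf S)).of_le l1
  have vS := l1.trans (PLoc.ZJOf_le S)
  refine ⟨_, ⟨ea, vS, l1.trans (PLoc.ZJOf_le_centralizer S), NC_norm, fun E a b => ?_⟩, le_NC⟩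
  obtain ⟨D, d1, d2, d3, d4⟩ := f1' hy ea (vS.trans sM) NC_norm (fun c => t (c.trans (cardS inf_le_left)))
    ((card_le inf_le_left).trans l) (a.trans sM) b
  refine (Nat.pow_le_pow_left (idx_le (inf_le_left.trans (cent_symm (NC_le' (cent_symm ?_) (normC d2))))) 2).trans d4
  refine le_of_syl fun p hp _ => ?_
  by_cases e : p = 2
  · exact ⟨_, e ▸ (s.sub sM inf_le_left).inf_norm' d1 d2, inf_le_left.trans (cent_symm (OmZ_cent 2 S))⟩
  obtain ⟨Q, hQ⟩ := syl_exists hp D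
  exact ⟨Q, hQ, fun x hx => centS le_NC (cent_of_idx d3 (d1.trans NC_norm) (hQ.le hx) (pie_odd e hQ.pi hx))⟩

/-- control of fusion in the groups of order `< m` -/
def FC (m : ℕ) : Prop := ∀ (G : Type u) [Group G] [Finite G] (H S V : Subgroup G), #H < m → ¬ 3 ∣ #H →
  Syl 2 S H → Adm H S V → ∀ A ≤ S, ∀ g ∈ H, cj g A ≤ S → Re (H ⊓ N[V]) A g

section
variable (hy : Hyp.{u} n) (fc : FC.{u} m) (mn : m ≤ n)
include hy fc mn

theorem quo_step (l : #H ≤ m) (t : ¬ 3 ∣ #H) (s : Syl 2 S H) (h0 : O[{2}](H) ≠ ⊥) (h1 : ¬ S ≤ O[{2}](H))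
    (hA : A ≤ S) (hg : g ∈ H) (h2 : cj g A ≤ S) : ∃ L, S ≤ L ∧ L < H ∧ ∃ y ∈ L,
      y⁻¹ * g ∈ (quo O[{2}](H)).pre C[A ÷ O[{2}](H)] := by
  have nQ := O_norm {2} H
  have c := card_quo_lt nQ (O_le _ _) h0
  have t' : ¬ 3 ∣ #(H ÷ O[{2}](H)) := fun c => t (c.trans (card_im_dvd _))
  have s' := s.im (φ := quo O[{2}](H)) nQ
  obtain ⟨V, a, b⟩ := exists_adm hy t' (by omega) s'
  obtain ⟨y, y1, y2⟩ := fc _ _ _ V (by omega) t' s' a _ (im_mono hA) _ (app_mem_im hg (nQ hg))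
    (by rw [← im_cj (φ := quo _) (nQ hg)]; exact im_mono h2)
  obtain ⟨y, hy, rfl⟩ := (mem_im' (φ := quo _) nQ).1 y1.1
  refine ⟨H ⊓ (quo O[{2}](H)).pre N[V], le_inf s.le ((le_pre_iff (φ := quo _) (s.le.trans nQ)).2 (a.nS s'.le)),
    inf_lt_left.2 fun d => ?_, y, ⟨hy, mem_pre.2 ⟨nQ hy, y1.2⟩⟩, mem_pre.2 ⟨nQ (mul_mem (inv_mem hy) hg), ?_⟩⟩
  · have := le_O (a.vS.trans s'.le) ((le_pre_iff (φ := quo _) nQ).1 d) (a.ab.pig p2)
    rw [O_quo_O] at this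
    exact s'.pi.OmZ_ne_bot (fun e => h1 ((quo_bot_iff (s.le.trans nQ)).1 e)) (eq_bot_iff.2 (b.trans this))
  · rwa [app_mul (φ := quo _) (nQ (inv_mem hy)) (nQ hg), app_inv (φ := quo _) (nQ hy)]

theorem norm_of_char (l : #H ≤ m) (t : ¬ 3 ∣ #H) (s : Syl 2 S H) (ch : H ⊓ C[O[{2}](H)] ≤ O[{2}](H))
    (a : Adm H S V) : H ≤ N[V] := by
  refine lt_wf_ind (P := fun P => P ≤ H → S ≤ P → P ≤ N[V]) (fun P ih p1 p2 => ?_) H le_rfl s.le
  have s' := s.sub p2 p1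
  by_cases j : JOf 2 S ≤ O[{2}](P)
  · exact (le_inf p1 (PLoc.JOf_eq_of_le j s'.O_le ▸ normJ (O_norm _ P))).trans a.nJ
  have nM : sSup {Y | S ≤ Y ∧ Y < P} ≤ N[V] := sSup_le fun Y b => ih Y b.2 (b.2.le.trans p1) b.1
  by_cases c : P ≤ sSup {Y | S ≤ Y ∧ Y < P}
  · exact c.trans nM
  have o := O_le_O {2} p1 (s.O_le.trans p2)
  have ch' := ((inf_le_inf p1 (centS o)).trans ch).trans o
  have c1 := (card_le p1).trans l
  have t' : ¬ 3 ∣ #P := fun c => t (c.trans (cardS p1))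
  have j' : ¬ S ≤ O[{2}](P) := fun d => j ((PLoc.JOf_le S).trans d)
  refine Mp.norm (n := n) (S := S) (M := sSup {Y | S ≤ Y ∧ Y < P}) ⟨hy, t', c1.trans mn, s', ch', fun Y b d => le_sSup ⟨b, d⟩, c, a.ab, a.vS, a.vJ, nM,
    a.nS s.le, a.fv, j, fun g hg b => ?_⟩
  obtain ⟨L, l1, l2, y, y1, y2⟩ := quo_step hy fc mn c1 t' s' (fun d => j' (by
    rw [d, C_bot, inf_top_eq] at ch'; exact d ▸ p2.trans ch')) j' a.vS hg b
  have nQ := O_norm {2} P
  have yP := l2.le y1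
  have := cj_eq_of (y := (quo O[{2}](P)).app y) (g := (quo O[{2}](P)).app g) (by
    rw [← app_inv (φ := quo _) (nQ yP), ← app_mul (φ := quo _) (nQ (inv_mem yP)) (nQ hg)]
    exact (mem_pre.1 y2).2)
  rw [← im_cj (φ := quo _) (nQ yP), ← im_cj (φ := quo _) (nQ hg),
    cj_of_mem_N (nM (le_sSup (s := {Y | S ≤ Y ∧ Y < P}) ⟨l1, l2⟩ y1))] at this
  exact (quo_le_iff ((b.trans p2).trans nQ) ((a.vS.trans p2).trans nQ)).1 this.ge

theorem factor (l : #H ≤ m) (t : ¬ 3 ∣ #H) (s : Syl 2 S H) (a : Adm H S V) (h1 : T ≤ S) (h2 : H ≤ N[T]) :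
    H ≤ C[T] ⊔ N[V] := by
  have nK : H ≤ N[T ⊔ H ⊓ C[T]] := normY h2 (normI (normG H) (normC h2))
  have KH : T ⊔ H ⊓ C[T] ≤ H := sup_le (h1.trans s.le) inf_le_left
  have hQ := s.inf_norm' KH nK
  set Q := S ⊓ (T ⊔ H ⊓ C[T]) with eQ
  have TQ : T ≤ Q := le_inf h1 le_sup_left
  have sH : S ≤ H ⊓ N[Q] := le_inf s.le (normI (normG S) (s.le.trans nK))
  have s1 := s.sub sH inf_le_left
  have nS := a.nS s.le
  refine (Syl.frattini hQ p2 KH nK).sup.ge.trans (sup_le (sup_le ((h1.trans nS).trans le_sup_right)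
    (inf_le_right.trans le_sup_left)) ?_)
  generalize e : H ⊓ N[Q] = H₁ at sH s1
  have l1 : H₁ ≤ H := e ▸ inf_le_left
  have l2 : H₁ ≤ N[Q] := e ▸ inf_le_right
  have n1 : H₁ ≤ N[H₁ ⊓ C[Q]] := normI (normG _) (normC l2)
  have s2 := s1.inf_norm' inf_le_left n1
  have l3 : S ⊓ (H₁ ⊓ C[Q]) ≤ Q := inf_le_inf_left _ ((inf_le_inf l1 (centS TQ)).trans le_sup_right)
  have sd := (burnside p2 s2 ((inf_le_left.trans inf_le_right).trans (centS l3))).sdprod s2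
  have n2 := normO {2}ᶜ n1
  have o := O_pig {2}ᶜ (H₁ ⊓ C[Q])
  have l4 := O_le {2}ᶜ (H₁ ⊓ C[Q])
  generalize O[{2}ᶜ](H₁ ⊓ C[Q]) = O at *
  have k : (quo O).ker ≤ H₁ := (quo_ker O).le.trans (l4.trans inf_le_left)
  have o' : PiG {2}ᶜ (quo O).ker := (quo_ker O).symm ▸ o
  have QH : Q ≤ H₁ := inf_le_left.trans sH
  have l5 : Q ÷ O ≤ O[{2}](H₁ ÷ O) := le_O (im_mono QH) (im_norm l2) (hQ.pi.im _)
  have d := (card_im_dvd (φ := quo O) H₁).trans (cardS l1)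
  have := norm_of_char hy fc mn ((Nat.le_of_dvd (card_pos _) d).trans l) (fun c => t (c.trans d))
    (s1.im n2) ((inf_le_inf_left _ (centS l5)).trans (by
      rw [← im_IC' (φ := quo O) (QH.trans n2) n2 k (hQ.pi.coprime o') (Or.inl hQ.pi.sol), ← sd.sup,
        quo_sup_l ((l3.trans QH).trans n2)]
      exact (im_mono l3).trans l5)) ((a.mono l1).im s1 n2 k o')
  have pV := a.ab.pig p2
  have e2 := im_IN_cop (φ := quo O) ((a.vS.trans sH).trans n2) n2 k (pV.coprime o') (Or.inl pV.sol)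
  rw [inf_eq_left.2 this] at e2
  exact ((quo_le_iff n2 (inf_le_left.trans n2)).1 e2.ge).trans (sup_le (inf_le_right.trans le_sup_right)
    ((l4.trans (inf_le_right.trans (centS TQ))).trans le_sup_left))

end

theorem split (s : Syl 2 T M) (h1 : K ≤ M) (h2 : M ≤ N[K]) (hA : A ≤ T) (hg : g ∈ M) (h3 : cj g A ≤ T) :
    ∃ c ∈ K, cj c A ≤ T ∧ g * c⁻¹ ∈ N[T ⊓ K] := by
  have r := s.inf_norm' h1 h2
  have nR : T ≤ N[T ⊓ K] := normI (normG T) (s.le.trans h2)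
  have aK := (hA.trans s.le).trans h2
  have a := hall_self (s.pi.of_le hA)
  have r' := r.cj_norm (inv_mem (h2 hg))
  have n' : A ≤ N[cj g⁻¹ (T ⊓ K)] := by rw [← norm_cj (g := g), cj_cj_inv]; exact h3.trans nR
  obtain ⟨y, hy, e⟩ := Syl.conj (Hall.sup_of_prod (isProd_l aK) r' a (isProd_l n')) p2
    (Hall.sup_of_prod (isProd_l aK) r a (isProd_l (hA.trans nR)))
  obtain ⟨c, hc, b, hb, rfl⟩ := (mem_sup_l aK).1 hy
  rw [cj_mul, cj_of_mem (mem_sup_right hb)] at e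
  have l := e.le.trans (sup_le inf_le_left hA)
  refine ⟨c, hc, (cj_mono c le_sup_right).trans l, ?_⟩
  rw [← inv_mem_iff, mul_inv_rev, inv_inv]
  refine mem_N_of_cj_le ?_
  rw [cj_mul]
  exact le_inf ((cj_mono c le_sup_left).trans l) (cj_le_of_mem r'.le (normG K hc))

theorem card_ind {p : Subgroup G → Prop} (ih : ∀ A, (∀ B : Subgroup G, #A < #B → p B) → p A) (A : Subgroup G) :
    p A := by
  induction A using (measure fun A : Subgroup G => Nat.card G - #A).wf.induction with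
  | h A i => exact ih A fun B b => i B (by
      have := card_le_card_group B
      show Nat.card G - #B < Nat.card G - #A
      omega)

theorem step_top (hy : Hyp.{u} n) (fc : FC.{u} m) (mn : m ≤ n) (l : #(⊤ : Subgroup G) ≤ m)
    (t : ¬ 3 ∣ #(⊤ : Subgroup G)) (s : Syl 2 P ⊤) (a : Adm ⊤ P V) (A : Subgroup G) :
    A ≤ P → ∀ g, cj g A ≤ P → Re N[V] A g := by
  have t' : ∀ H : Subgroup G, ¬ 3 ∣ #H := fun H c => t (c.trans (cardS le_top))
  have l' : ∀ H : Subgroup G, H ≠ ⊤ → #H < m := fun H c => (card_lt (lt_top_iff_ne_top.2 c)).trans_le l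
  have sub : ∀ H, H ≠ ⊤ → P ≤ H → ∀ A ≤ P, ∀ g ∈ H, cj g A ≤ P → Re N[V] A g := fun H b c A d g e f =>
    (fc G H P V (l' H b) (t' H) (s.sub c le_top) (a.mono le_top) A d g e f).mono' inf_le_right
  have pM := a.nS le_top
  have top : ∀ g, cj g P ≤ P → Re N[V] P g := fun g b =>
    Re.of_mem _ (a.nJ ⟨mem_top _, normJ le_rfl (mem_N_of_cj_le b)⟩)
  refine card_ind (p := fun A => A ≤ P → ∀ g, cj g A ≤ P → Re N[V] A g) (fun A ihA hA g hg => ?_) A
  rcases hA.eq_or_lt with rfl | hlt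
  · exact top g hg
  have nl : ∀ {B}, B < P → B < P ⊓ N[B] := fun b => s.pi.nil.lt_norm b
  by_cases hO : O[{2}]((⊤ : Subgroup G)) = ⊥
  · by_cases a0 : A = ⊥
    · exact ⟨1, one_mem _, by rw [a0, C_bot]; exact mem_top _⟩
    have hN : ∀ Q : Subgroup G, PiG {2} Q → Q ≠ ⊥ → N[Q] ≠ ⊤ := fun Q a b c =>
      b (eq_bot_iff.2 (hO ▸ le_O le_top c.ge a))
    have key : ∀ S : Subgroup G, S ≤ P → #A < #S → ∀ H, H ≠ ⊤ → Syl 2 S H → ∀ T ≤ S, ∀ x ∈ H, cj x T ≤ S →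
        Re N[V] T x := by
      refine card_ind fun S ihS hS aS H hH sH T hT x hx xT => ?_
      rcases hS.eq_or_lt with rfl | lt'
      · exact sub H hH sH.le T hT x hx xT
      have s0 : S ≠ ⊥ := fun c => by have := card_pos A; rw [c, card_bot'] at aS; omega
      have loc : ∀ Y, Y ≤ S → Y ≠ ⊥ → N[S] ≤ N[Y] → ∀ T ≤ S, ∀ x ∈ N[Y], cj x T ≤ S → Re N[V] T x :=
        fun Y y1 y2 y3 T hT x hx xT => by
          obtain ⟨U, u1, u2⟩ := syl_superset p2 (inf_le_right.trans y3) (s.pi.of_le (inf_le_left : P ⊓ N[S] ≤ P))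
          have su := (nl lt').trans_le u2
          obtain ⟨h, -, hh⟩ := s.cj_sub p2 le_top u1.pi
          have r := ihA S aS hS h ((cj_mono h su.le).trans hh)
          have c := card_lt su
          refine (r.mono hT).conj (r.mono xT) (ihS (cj h U) (by rwa [card_cj]) hh (by rw [card_cj]; omega)
            (cj h N[Y]) (fun d => hN Y (sH.pi.of_le y1) y2 (cj_eq_top.1 d)) (u1.cj h) _
            (cj_mono h (hT.trans su.le)) _ (mem_cj_conj.2 hx) ?_)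
          rw [← cj_mul, inv_mul_cancel_right, cj_mul]; exact cj_mono h (xT.trans su.le)
      obtain ⟨W, w1, w2⟩ := exists_adm hy (t' H) ((l' H hH).le.trans mn) sH
      obtain ⟨y, y1, y2⟩ := fc G H S W (l' H hH) (t' H) sH w1 T hT x hx xT
      rw [← cj_eq_of y2] at xT
      have l1 := le_inf sH.le (w1.nS sH.le)
      obtain ⟨c, c1, c2, c3⟩ := split (K := H ⊓ N[W] ⊓ C[W]) (sH.sub l1 inf_le_left) inf_le_left
        (normI (normG _) (normC inf_le_right)) hT y1 xT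
      have j : JOf 2 (S ⊓ (H ⊓ N[W] ⊓ C[W])) = JOf 2 S := PLoc.JOf_eq_of_le (le_inf (PLoc.JOf_le S)
        (le_inf ((PLoc.JOf_le S).trans l1) (cent_symm w1.vJ))) inf_le_left
      have r1 := loc _ (OmZ_le 2 S) (sH.pi.OmZ_ne_bot s0) (normOmZ 2 le_rfl) T hT c
        (C_le_N _ (centS w2 c1.2)) c2
      have r2 := loc _ (PLoc.JOf_le S) (PLoc.JOf_ne_bot (sH.pi.pg p2) s0 dvd_rfl) (normJ le_rfl) _ c2 _
        (j ▸ normJ le_rfl c3) (by rwa [← cj_mul, inv_mul_cancel_right])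
      have := r1.mul r2
      rw [inv_mul_cancel_right] at this
      exact this.congr y2
    obtain ⟨P', rfl⟩ := s.exists_sylow_top p2
    have cv : ∀ {T : Subgroup G} {x : G}, Re N[V] T x⁻¹ → ∃ y ∈ N[V], ∀ a ∈ T, y⁻¹ * a * y = x⁻¹ * a * x := by
      rintro T x ⟨y, y1, y2⟩
      refine ⟨y⁻¹, inv_mem y1, fun a ha => ?_⟩
      calc y⁻¹⁻¹ * a * y⁻¹ = y * (a * (y⁻¹ * x⁻¹)) * x := by group
        _ = _ := by rw [y2 a ha]; group
    obtain ⟨y, y1, y2⟩ := PLoc.strong_fusion_of_local P' N[V] A (fun T hT hc hs x hx => cv (by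
      have e := cj_of_mem_N (inv_mem hx)
      rcases hT.eq_or_lt with rfl | lt'
      · exact top _ e.le
      refine key _ inf_le_left (hc.trans_lt (card_lt (nl lt'))) _ (hN T (s.pi.of_le hT) fun c => a0 ?_)
        ((syl_iff' p2).2 hs) T (nl lt').le _ (inv_mem hx) (e.le.trans (nl lt').le)
      rw [c, card_bot'] at hc; exact (card_le_one_iff_eq_bot _).1 hc)) g⁻¹ hA (by rwa [inv_inv])
    refine ⟨y⁻¹, inv_mem y1, fun a ha => ?_⟩
    calc a * (y⁻¹⁻¹ * g) = y * (y⁻¹ * a * y) * g := by group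
      _ = _ := by rw [y2 a ha]; group
  have QP := s.O_le
  have nQ := O_norm {2} (⊤ : Subgroup G)
  have qs := fun h1 => quo_step hy fc mn l t s hO h1 hA (mem_top g) hg
  generalize O[{2}]((⊤ : Subgroup G)) = Q at *
  have nC := normC nQ
  by_cases hH : P ⊔ C[Q] = ⊤
  swap
  · obtain ⟨y, y1, c, c1, rfl⟩ := (mem_sup_r (le_top.trans nC)).1
      (sup_comm C[Q] _ ▸ factor hy fc mn l t s a QP nQ (mem_top g))
    have l1 : cj c A ≤ N[V] ⊓ (P ⊔ C[Q]) := by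
      refine le_inf ?_ (cj_le_of_mem (hA.trans le_sup_left) (normG _ (mem_sup_right c1)))
      rw [← inv_mul_cancel_left y c, cj_mul]; exact cj_le_of_mem (hg.trans pM) (normG _ (inv_mem y1))
    obtain ⟨h, h1, h2⟩ := Syl.cj_sub (s.sub (le_inf pM le_sup_left) le_top) p2 l1 ((s.pi.of_le hA).cj c)
    have := (sub _ hH le_sup_left A hA (h * c) (mul_mem h1.2 (mem_sup_right c1)) (by rwa [cj_mul])).mul
      (Re.of_mem _ (mul_mem y1 (inv_mem h1.1)))
    rwa [show y * h⁻¹ * (h * c) = y * c by group] at this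
  by_cases qa : Q ≤ A
  swap
  · refine (ihA (A ⊔ Q) (card_lt (left_lt_sup.2 qa)) (sup_le hA QP) g ?_).mono le_sup_left
    rw [cj_sup, cj_of_mem_N (nQ (mem_top g))]; exact sup_le hg QP
  obtain ⟨L, l1, l2, y, y1, y2⟩ := qs fun d => hlt.not_ge (d.trans qa)
  have nq : ∀ X : Subgroup G, X ≤ N[Q] := fun X => le_top.trans nQ
  have k1 : ⁅A, (quo Q).pre C[A ÷ Q]⁆ ≤ Q := (quo_cent_iff (nq _) (nq _)).1 (cent_symm (im_pre_le _))
  have k2 : N[A] ≤ N[(quo Q).pre C[A ÷ Q]] := norm_pre (φ := quo Q) (nq _) (normC (im_norm le_rfl))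
  generalize (quo Q).pre C[A ÷ Q] = K at *
  have k3 : K ≤ N[A] := comm_le_l.1 (k1.trans qa)
  have e := cj_of_mem_N (k3 y2)
  have r1 := sub L l2.ne l1 A hA y y1 (by rwa [← e, ← cj_mul, mul_inv_cancel_left])
  have r2 : Re N[V] A (y⁻¹ * g) := by
    obtain ⟨R, u1, u2⟩ := syl_superset p2 inf_le_right (s.pi.of_le (inf_le_left : P ⊓ N[A] ≤ P))
    obtain ⟨h, -, hh⟩ := s.cj_sub p2 le_top u1.pi
    have r := (ihA _ (card_lt (nl hlt)) inf_le_left h ((cj_mono h u2).trans hh)).mono (nl hlt).le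
    have k4 : pResOf 2 K ≤ C[A] := res_le fun x hx o => by
      have x1 : zpowers x ≤ C[Q] := (pig_zpowers.2 o).le_of_idx nC le_top (by
        rw [← hH, sup_comm, relIndex_sup_l (le_top.trans nC)]; exact (s.pi.relIndex _).compl_compl)
      exact cent_symm (cop_stable (cop2 (s.pi.of_le QP) o) ((commS le_rfl (zpowers_le.2 hx)).trans k1)
        (cent_symm x1)) (mem_zpowers x)
    obtain ⟨b, b1, c, c1, e⟩ := (mem_sup_r (inf_le_right.trans (PLoc.le_normalizer_pResOf K))).1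
      (((syl_iff' p2).1 (u1.inf_norm' k3 k2)).sup_pResOf.ge y2)
    rw [e]
    exact (r.conj ((cj_of_mem_N (u1.le b1.1)).symm ▸ r) (Re.of_mem _ (pM (hh (mem_cj_conj.2 b1.1))))).congr
      (by rw [inv_mul_cancel_left]; exact k4 c1)
  have := r2.mul (e.symm ▸ r1)
  rwa [mul_inv_cancel_left] at this

theorem fc_all (hy : Hyp.{u} n) (m : ℕ) (mn : m ≤ n + 1) : FC.{u} m := by
  induction m with
  | zero => exact fun _ _ _ _ _ _ c => absurd c (Nat.not_lt_zero _)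
  | succ m ih =>
  intro G _ _ H S V l t s a A hA g hg b
  have c : #(⊤ : Subgroup H) = #H := card_top
  have k : (rst H).ker ≤ H := (rst_ker H).le.trans bot_le
  have a' := a.im (φ := rst H) s le_rfl k ((rst_ker H).symm ▸ pig_bot _)
  have s' := s.im (φ := rst H) le_rfl
  rw [rst_im_self] at a' s'
  obtain ⟨y, y1, y2⟩ := step_top hy (ih (by omega)) (by omega) (by omega) (c ▸ t) s' a' _ (im_mono hA)
    ((rst H).app g) (by rw [← im_cj (φ := rst H) hg]; exact im_mono b)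
  rw [app_eq (φ := rst H) hg] at y2
  refine ⟨y, ⟨y.2, mem_N_of fun v hv => ?_⟩, fun x hx => ?_⟩
  · exact conj_mem y1 (show (⟨v, s.le (a.vS hv)⟩ : H) ∈ (rst H).im V by rwa [rst_im])  |> (rst_im H V).le
  · exact congrArg Subtype.val (y2 ⟨x, s.le (hA hx)⟩ (show _ ∈ (rst H).im A by rwa [rst_im]))

end Cfsg.Agent.S3F
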