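import Cfsg.Agent.S3F.F1b
import Cfsg.Agent.PLoc.NPC

/-! # Normality of an admissible subgroup in a minimal parabolic -/

set_option autoImplicit false
set_option linter.unusedVariables false
set_option linter.unusedSectionVars false

namespace Cfsg.Agent.S3F
open Cfsg Cfsg.Agent.BG Subgroup PHom
open Cfsg.Agent.PLoc (JOf maxEA pResOf)

universe u

variable {G : Type u} [Group G] [Finite G] {A B D E H K L M N P Q R S T U V W W₀ X Y Z : Subgroup G}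
  {g x y e : G} {n : ℕ}

instance fact2 : Fact (Nat.Prime 2) := ⟨p2⟩

theorem f1' (hy : Hyp.{u} n) (h1 : Abelem 2 W) (h2 : W ≤ X) (h3 : X ≤ N[W]) (h4 : ¬ 3 ∣ #X) (h5 : #X ≤ n)
    (h6 : E ≤ X) (h7 : ∀ e ∈ E, e ^ 2 ∈ C[W]) : F1c W X E := by
  by_cases w : W = ⊥
  · exact ⟨X, le_rfl, normG X, by rw [w, C_bot, relIndex_top_left]; exact pin_one _,
      by rw [relIndex_eq_one.2 h6]; exact relIndex_pos _ _⟩
  refine f1 hy ⟨h1, h3, h6, h7, fun c => h4 (c.trans (relIndex_dvd _ _)), lt_of_lt_of_le ?_ h5⟩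
  have a := card_inf_mul_relIndex C[W] X
  have b := (one_lt_card w).trans_le (card_le (le_inf h1.abel h2))
  have := relIndex_pos C[W] X
  nlinarith

/-- no offenders on `V` in `S` -/
def FV (V S : Subgroup G) : Prop :=
  ∀ E ≤ S, (∀ e ∈ E, e ^ 2 ∈ C[V]) → C[V].relIndex E ^ 2 ≤ C[E].relIndex V

theorem FV.mono (h : FV V S) (h1 : T ≤ S) : FV V T := fun E a => h E (a.trans h1)

theorem FV.cj (h : FV V S) (g : G) : FV (cj g V) (cj g S) := fun E a b => by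
  have := h (BG.cj g⁻¹ E) (cj_le_iff.2 (by rwa [inv_inv])) fun e he => by
    have := b _ (mem_cj_inv.1 he)
    rwa [conj_pow, ← cj_C, mem_cj_conj] at this
  rwa [← relIndex_cj g, ← relIndex_cj g C[_], cj_C, cj_C, cj_cj_inv] at this

theorem FV.of_syl (h : FV V S) (h1 : Syl 2 S M) (h2 : M ≤ N[V]) (h3 : T ≤ M) (h4 : PiG {2} T) : FV V T := by
  obtain ⟨g, hg, l⟩ := h1.sub_cj p2 h3 h4
  exact (cj_of_mem_N (h2 hg) ▸ h.cj g).mono l

theorem fv_bot (S : Subgroup G) : FV ⊥ S := fun E _ _ => by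
  rw [C_bot, relIndex_top_left]; exact relIndex_pos _ _

theorem FV.sup (h : FV Y S) (h' : FV Z S) (h1 : Abel (Y ⊔ Z)) : FV (Y ⊔ Z) S := fun E a b => by
  rw [C_sup] at b
  have a1 := h E a fun e he => (b e he).1
  have a2 := h' (E ⊓ C[Y]) (inf_le_left.trans a) fun e he => (b e he.1).2
  have a3 : C[Y ⊔ Z].relIndex E ≤ C[Z].relIndex (E ⊓ C[Y]) * C[Y].relIndex E := by
    rw [idx_mul (inf_le_left.trans (centS le_sup_left) : _ ⊓ E ≤ C[Y])]
    exact Nat.mul_le_mul_right _ (idx_le (centY (inf_le_right.trans inf_le_right) inf_le_left))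
  rw [idx_mul (inf_le_left.trans (centS inf_le_left) : C[E] ⊓ (Y ⊔ Z) ≤ C[E ⊓ C[Y]])]
  calc _ ≤ _ := Nat.pow_le_pow_left a3 2
    _ = C[Y].relIndex E ^ 2 * C[Z].relIndex (E ⊓ C[Y]) ^ 2 := by ring
    _ ≤ _ := Nat.mul_le_mul (a1.trans (idx_mono (le_inf le_sup_left (cent_symm inf_le_right))
        (abel_norm (h1.of_le inf_le_left) inf_le_left)))
      (a2.trans (idx_mono le_sup_right (abel_norm h1 inf_le_left)))

/-- normal closure in `H` -/
def NC (H V : Subgroup G) : Subgroup G := ⨆ h : H, cj (h : G) V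

theorem cj_le_NC (h : g ∈ H) : cj g V ≤ NC H V := le_iSup (fun h : H => cj (h : G) V) ⟨g, h⟩
theorem le_NC : V ≤ NC H V := by simpa [cj_one] using cj_le_NC (V := V) (one_mem H)
theorem NC_le (h : ∀ g ∈ H, cj g V ≤ X) : NC H V ≤ X := iSup_le fun g => h g g.2
theorem NC_le' (h1 : V ≤ X) (h2 : H ≤ N[X]) : NC H V ≤ X := NC_le fun g hg => cj_le_of_mem h1 (h2 hg)
theorem NC_norm : H ≤ N[NC H V] := fun g hg => mem_N_of_cj_le (cj_le_iff.2 (NC_le fun k hk => by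
  rw [← cj_le_iff, ← cj_mul]; exact cj_le_NC (mul_mem hg hk)))

theorem NC_abelem (h : Abelem 2 V) (h1 : ∀ g ∈ H, ∀ k ∈ H, cj g V ≤ C[cj k V]) : Abelem 2 (NC H V) := by
  have a : Abel (NC H V) := NC_le fun g hg => cent_symm (NC_le fun k hk => h1 k hk g hg)
  have : NC H V ≤ Ω[2](NC H V) := NC_le fun g hg => (h.cj g).le_Om (cj_le_NC hg)
  exact (a.Om_abelem 2).of_le this

theorem fv_NC (h : Abel (NC H V)) (h1 : ∀ g ∈ H, FV (cj g V) S) : FV (NC H V) S := by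
  obtain ⟨Y, -, ⟨a, b⟩, c⟩ := exists_maximal (P := fun Y => Y ≤ NC H V ∧ FV Y S) ⟨bot_le, fv_bot S⟩
  have : NC H V ≤ Y := NC_le fun g hg => by
    have l := sup_le a (cj_le_NC hg)
    exact le_sup_right.trans (c _ ⟨l, b.sup (h1 g hg) (h.of_le l)⟩ le_sup_left).le
  exact le_antisymm a this ▸ b

theorem idx_C1_le (h : ∀ v ∈ V, v * x * v⁻¹ * x⁻¹ ∈ Z) : C1[x].relIndex V ≤ #Z := by
  have a := SE.card_conj V x
  rw [← card_inf_mul_relIndex C1[x] V, inf_comm] at a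
  rw [Nat.eq_of_mul_eq_mul_left (card_pos _) a]
  refine Set.ncard_le_ncard_of_injOn (fun y => y * x⁻¹) ?_ (fun a _ b _ e => mul_right_cancel e)
    (Set.toFinite (Z : Set G))
  rintro _ ⟨v, hv, rfl⟩; exact h v hv

theorem dual (hB : PiG {2} B) (h : ∀ q ∈ B, C1[q].relIndex V ≤ 2) : C[B].relIndex V ≤ C[V].relIndex B := by
  revert hB h
  refine lt_wf_ind (P := fun B => PiG {2} B → (∀ q ∈ B, C1[q].relIndex V ≤ 2) →
    C[B].relIndex V ≤ C[V].relIndex B) (fun B ih hB h => ?_) B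
  by_cases c : B ≤ C[V]
  · rw [relIndex_eq_one.2 (cent_symm c)]; exact relIndex_pos _ _
  obtain ⟨M, m1, m2, m3, m4⟩ := hB.exists_max p2 (inf_lt_right.2 c : C[V] ⊓ B < B)
  have l : M < B := lt_of_le_of_ne m2 fun e => by simp [e] at m4
  obtain ⟨q, q1, q2⟩ := SetLike.exists_of_lt l
  have e : M ⊔ zpowers q = B := (eq_or_eq_of_relIndex_prime (m4 ▸ p2) le_sup_left
    (sup_le m2 (zpowers_le.2 q1))).resolve_left fun e => q2 (e ▸ mem_sup_right (mem_zpowers q))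
  rw [idx_mul m1, m4, inf_eq_right.2 m2]
  nth_rw 1 [← e]
  rw [C_sup, C_zpowers]
  exact relIndex_inf_le.trans (Nat.mul_le_mul (ih M l (hB.of_le m2) fun q a => h q (m2 a)) (h q q1))

theorem res_le (h : ∀ x ∈ H, PiE {2}ᶜ x → x ∈ K) : pResOf 2 H ≤ K :=
  PLoc.pResOf_le_iff.2 fun x hx o => h x hx ((pin_compl_cop p2).2 o)

theorem comm_res (h : PiG {2} Q) (h0 : Q ≤ H) (h1 : H ≤ N[Q]) :
    ⁅Q, pResOf 2 H⁆ ≤ ⁅⁅Q, pResOf 2 H⁆, pResOf 2 H⁆ := by
  have k := PLoc.le_normalizer_pResOf (p := 2) H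
  have n1 : H ≤ N[⁅⁅Q, pResOf 2 H⁆, pResOf 2 H⁆] := normR (normR h1 k) k
  have n2 := (PLoc.pResOf_le (p := 2) H).trans n1
  rw [← quo_cent_iff (h0.trans n1) n2, centC, ← le_pre_iff (φ := quo _) n2]
  refine res_le fun x hx o => zpowers_le.1 ?_
  have x1 := zpowers_le.2 (PLoc.mem_pResOf hx ((pin_compl_cop p2).1 o))
  rw [le_pre_iff (φ := quo _) (x1.trans n2), centC, quo_cent_iff (h0.trans n1) (x1.trans n2),
    ← cop_comm_comm (zpowers_le.2 (h1 hx)) (cop2 h o) (Or.inr h.sol)]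
  exact commS (commS le_rfl x1) x1

theorem sq_le_one {a b c d : ℕ} (h1 : a ^ 2 ≤ d) (h2 : d ^ 2 ≤ a * c) (h3 : b ^ 2 ≤ c) (h4 : c ^ 2 ≤ b * d)
    (h : c ≤ d) : d ≤ 1 := by
  by_contra e
  have : d ^ 2 * d ^ 2 ≤ d * d ^ 2 := calc
    _ ≤ (a * c) * (a * c) := Nat.mul_le_mul h2 h2
    _ = a ^ 2 * c ^ 2 := by ring
    _ ≤ _ := Nat.mul_le_mul h1 (Nat.pow_le_pow_left h 2)
  have := Nat.le_of_mul_le_mul_right this (Nat.pow_pos (by omega))
  nlinarith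

/-- a pair of subgroups in a group of characteristic two -/
structure Pr (n : ℕ) (Q A B : Subgroup G) : Prop where
  hyp : Hyp.{u} n
  t : ¬ 3 ∣ #(A ⊔ B ⊔ Q)
  le : #(A ⊔ B ⊔ Q) ≤ n
  pQ : PiG {2} Q
  nQ : A ⊔ B ≤ N[Q]
  ch : (A ⊔ B ⊔ Q) ⊓ C[Q] ≤ Q
  a : Abelem 2 A
  b : Abelem 2 B
  nA : O[{2}](A ⊔ B ⊔ Q) ≤ N[A]
  nB : O[{2}](A ⊔ B ⊔ Q) ≤ N[B]
  fA : FV A O[{2}](A ⊔ B ⊔ Q)
  fB : FV B O[{2}](A ⊔ B ⊔ Q)

namespace Pr
variable (h : Pr n Q A B)
include h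

theorem symm : Pr n Q B A := by
  obtain ⟨a, b, c, d, e, f, g, i, j, k, l, m⟩ := h
  rw [sup_comm A B] at *
  exact ⟨a, b, c, d, e, f, i, g, k, j, m, l⟩

theorem two : C[A].relIndex (B ⊓ O[{2}](A ⊔ B ⊔ Q)) ^ 2 ≤
    O[{2}](A ⊔ B ⊔ Q).relIndex A * C[B].relIndex (A ⊓ O[{2}](A ⊔ B ⊔ Q)) := by
  refine (h.fA _ inf_le_right fun e he => h.b.pow e he.1 ▸ one_mem _).trans
    ((idx_le (D := C[B] ⊓ O[{2}](A ⊔ B ⊔ Q)) (inf_le_left.trans (inf_le_left.trans (centS inf_le_left)))).trans ?_)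
  rw [idx_mul (inf_le_left.trans inf_le_right : _ ⊓ A ≤ O[{2}](A ⊔ B ⊔ Q)), mul_comm]
  exact Nat.mul_le_mul_left _ (idx_le (le_inf inf_le_left (inf_le_right.trans inf_le_right)))

theorem one : O[{2}](A ⊔ B ⊔ Q).relIndex A ^ 2 ≤ C[A].relIndex (B ⊓ O[{2}](A ⊔ B ⊔ Q)) := by
  set L := A ⊔ B ⊔ Q with hL
  set R := O[{2}](L) with hR
  have pR : PiG {2} R := O_pig _ _
  have nR : L ≤ N[R] := O_norm _ _
  have aL : A ≤ L := le_sup_left.trans le_sup_left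
  have bL : B ≤ L := le_sup_right.trans le_sup_left
  have QR : Q ≤ R := le_O le_sup_right (sup_le h.nQ (normG Q)) h.pQ
  have cA : ⁅R, A⁆ ≤ A ⊓ R := le_inf (commR h.nA) (commL (aL.trans nR))
  have cB : ⁅R, B⁆ ≤ B ⊓ R := le_inf (commR h.nB) (commL (bL.trans nR))
  set W := A ⊓ R ⊔ B ⊓ R with hW
  have WR : W ≤ R := sup_le inf_le_right inf_le_right
  have nW : L ≤ N[W] := sup_le (sup_le (norm_of_comm_le (cA.trans le_sup_left) WR)
    (norm_of_comm_le (cB.trans le_sup_right) WR))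
    (QR.trans (normY (normI h.nA (normG R)) (normI h.nB (normG R))))
  have cK : ⁅R, A ⊔ B⁆ ≤ W := comm_sup_le' (cA.trans le_sup_left) (cB.trans le_sup_right) (aL.trans nW)
    (bL.trans nW)
  have nK : L ≤ N[A ⊔ B] := sup_le (normG _) (QR.trans (normY h.nA h.nB))
  set D := W ⊓ C[A ⊔ B] with hD
  have nD : L ≤ N[D] := normI nW (normC nK)
  have WL := WR.trans (O_le _ L)
  have nAB : B ⊓ R ≤ N[A ⊓ R] := inf_le_right.trans (normI h.nA (normG R))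
  have ea : Abelem 2 (W ÷ D) := by
    rw [hW, im_sup (φ := quo D) ((inf_le_left.trans aL).trans nD) ((inf_le_left.trans bL).trans nD)]
    refine ((h.a.of_le inf_le_left).im _).sup ((h.b.of_le inf_le_left).im _) ((quo_cent_iff
      ((inf_le_left.trans aL).trans nD) ((inf_le_left.trans bL).trans nD)).2 ?_)
    have c1 := commL nAB
    have c2 : ⁅A ⊓ R, B ⊓ R⁆ ≤ B ⊓ R := commR (inf_le_right.trans (normI h.nB (normG R)))
    exact le_inf (c1.trans le_sup_left) (centY ((c1.trans inf_le_left).trans h.a.abel)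
      ((c2.trans inf_le_left).trans h.b.abel))
  obtain ⟨D', d1, d2, d3, d4⟩ := f1' (E := A ÷ D) h.hyp ea (im_mono WL) (im_norm nW)
    (fun c => h.t (c.trans (card_im_dvd _))) ((Nat.le_of_dvd (card_pos _) (card_im_dvd _)).trans h.le)
    (im_mono aL) fun e he => (h.a.im _).pow e he ▸ one_mem _
  have l : (quo D).pre D' ⊓ L ≤ R := by
    refine le_O inf_le_right (normI (norm_pre nD d2) (normG L)) (pig2_of fun x hx o => ?_)
    have x1 : zpowers x ≤ A ⊔ B := (pig_zpowers.2 o).le_of_idx nK (zpowers_le.2 hx.2) (by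
      rw [hL, relIndex_sup_l (le_sup_right.trans nK)]; exact (h.pQ.relIndex _).compl_compl)
    have c3 := cent_of_idx d3 (d1.trans (im_norm nW)) (mem_pre.1 hx.1).2 (o.app (nD hx.2))
    have c4 : ⁅W, zpowers x⁆ ≤ D := by
      rw [← quo_cent_iff (WL.trans nD) (zpowers_le.2 (nD hx.2)), centC, im_zpowers (φ := quo D) (nD hx.2)]
      exact zpowers_le.2 c3
    have c5 := cop_stable (cop2 (pR.of_le (inf_le_left.trans WR)) o) c4 (inf_le_right.trans (centS x1))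
    have c6 := cop_stable (cop2 (pR.of_le WR) o) ((commS le_rfl x1).trans cK) c5
    exact (h.pQ.elt (h.ch ⟨hx.2, cent_symm (QR.trans c6) (mem_zpowers x)⟩)).eq_one o
  refine (Nat.pow_le_pow_left ?_ 2).trans (d4.trans ?_)
  · rw [← relIndex_pre (φ := quo D) D' (aL.trans nD)]
    exact idx_le ((inf_le_inf_left _ aL).trans l)
  · have k : ∀ Y ≤ W, Y ≤ C[A] → Y ≤ (quo D).pre C[A ÷ D] ⊓ W := fun Y a b =>
      le_inf ((le_pre_iff (φ := quo D) ((a.trans WL).trans nD)).2 (im_cent b)) a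
    rw [← relIndex_pre (φ := quo D) _ (WL.trans nD), ← inf_relIndex_right,
      ((isProd_l nAB).mono (k _ le_sup_left (inf_le_left.trans h.a.abel)) le_rfl inf_le_right
        le_sup_right).relIndex]
    exact idx_le (k _ (inf_le_right.trans le_sup_right) inf_le_left)

theorem pig : PiG {2} (A ⊔ B) := by
  have a1 := h.one
  have a2 := h.two
  have a3 := h.symm.one
  have a4 := h.symm.two
  rw [sup_comm B A] at a3 a4
  have k : ∀ {a d : ℕ}, 0 < a → a ^ 2 ≤ d → d ≤ 1 → a = 1 := fun _ _ _ => by nlinarith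
  have : C[A].relIndex (B ⊓ O[{2}](A ⊔ B ⊔ Q)) ≤ 1 ∧ C[B].relIndex (A ⊓ O[{2}](A ⊔ B ⊔ Q)) ≤ 1 := by
    rcases le_total (C[A].relIndex (B ⊓ O[{2}](A ⊔ B ⊔ Q))) (C[B].relIndex (A ⊓ O[{2}](A ⊔ B ⊔ Q))) with c | c
    · exact ⟨c.trans (sq_le_one a3 a4 a1 a2 c), sq_le_one a3 a4 a1 a2 c⟩
    · exact ⟨sq_le_one a1 a2 a3 a4 c, c.trans (sq_le_one a1 a2 a3 a4 c)⟩
  exact (O_pig _ _).of_le (sup_le (relIndex_eq_one.1 (k (relIndex_pos _ _) a1 this.1))
    (relIndex_eq_one.1 (k (relIndex_pos _ _) a3 this.2)))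

end Pr

/-- a minimal parabolic -/
structure Mp (n : ℕ) (H S M V : Subgroup G) : Prop where
  hyp : Hyp.{u} n
  t : ¬ 3 ∣ #H
  le : #H ≤ n
  syl : Syl 2 S H
  ch : H ⊓ C[O[{2}](H)] ≤ O[{2}](H)
  uniq : ∀ Y, S ≤ Y → Y < H → Y ≤ M
  lt : ¬ H ≤ M
  ab : Abelem 2 V
  vS : V ≤ S
  vJ : V ≤ C[JOf 2 S]
  nV : M ≤ N[V]
  nS : S ≤ N[V]
  fv : FV V S
  nJ : ¬ JOf 2 S ≤ O[{2}](H)
  wc : ∀ g ∈ H, cj g V ≤ S → cj g V ≤ V ⊔ O[{2}](H)

namespace Mp
variable (h : Mp n H S M V)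
include h

local notation "𝐐" => O[{2}](H)
local notation "𝐊" => pResOf 2 H

theorem QS : 𝐐 ≤ S := h.syl.O_le
theorem pS : PiG {2} S := h.syl.pi
theorem sup : S ⊔ 𝐊 = H := ((syl_iff' p2).1 h.syl).sup_pResOf
theorem KH : 𝐊 ≤ H := PLoc.pResOf_le H
theorem nK : H ≤ N[𝐊] := PLoc.le_normalizer_pResOf H

theorem leM (h1 : S ≤ Y) (h2 : ¬ H ≤ Y) : H ⊓ Y ≤ M := h.uniq _ (le_inf h.syl.le h1) (inf_lt_left.2 h2)

theorem par (h1 : D ≤ H) (h2 : H ≤ N[D]) : S ⊓ D ≤ 𝐐 ∨ ∀ x ∈ H, PiE {2}ᶜ x → x ∈ D := by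
  by_cases a : H ≤ N[S ⊓ D]
  · exact Or.inl (le_O (inf_le_left.trans h.syl.le) a (h.pS.of_le inf_le_left))
  refine Or.inr fun x hx o => zpowers_le.1 ((pig_zpowers.2 o).le_of_idx h2 (zpowers_le.2 hx) ?_)
  have b := h.leM (normI (normG S) (h.syl.le.trans h2)) a
  have c : D ⊔ S = H := by
    by_contra c
    exact h.lt ((Syl.frattini (h.syl.inf_norm' h1 h2) p2 h1 h2).sup.ge.trans (sup_le
      (le_sup_left.trans (h.uniq _ le_sup_right (lt_of_le_of_ne (sup_le h1 h.syl.le) c))) b))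
  rw [← c, relIndex_sup_l (h.syl.le.trans h2)]; exact (h.pS.relIndex _).compl_compl

theorem sec {G' : Type u} [Group G'] [Finite G'] {φ : PHom G G'} (h0 : H ≤ φ.dom) (h1 : W ≤ H)
    (h2 : H ≤ N[W]) (h3 : Abelem 2 (φ.im W)) (h4 : A ≤ S) (h5 : Abelem 2 A) :
    ⁅W, 𝐊⁆ ≤ φ.ker ∨ (𝐐).relIndex A ^ 2 ≤ C[φ.im A].relIndex (φ.im W) := by
  have aH := h4.trans h.syl.le
  obtain ⟨D, d1, d2, d3, d4⟩ := f1' (E := φ.im A) h.hyp h3 (im_mono h1) (im_norm h2)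
    (fun c => h.t (c.trans (card_im_dvd _))) ((Nat.le_of_dvd (card_pos _) (card_im_dvd _)).trans h.le)
    (im_mono aH) fun e he => (h5.im _).pow e he ▸ one_mem _
  refine (h.par (D := φ.pre D ⊓ H) inf_le_right (normI (norm_pre h0 d2) (normG H))).symm.imp
    (fun a => ?_) fun a => (Nat.pow_le_pow_left ?_ 2).trans d4
  · rw [← cent_im_iff (h1.trans h0) (h.KH.trans h0), centC, ← le_pre_iff (h.KH.trans h0)]
    exact res_le fun x hx o => mem_pre.2 ⟨h0 hx, cent_of_idx d3 (d1.trans (im_norm h2))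
      (mem_pre.1 (a x hx o).1).2 (o.app (h0 hx))⟩
  · rw [← relIndex_pre D (aH.trans h0)]
    exact idx_le ((le_inf (inf_le_right.trans h4) (inf_le_inf_left _ aH)).trans a)

theorem sec0 (h1 : W ≤ H) (h2 : H ≤ N[W]) (h3 : Abelem 2 W) (h4 : A ≤ S) (h5 : Abelem 2 A) :
    𝐊 ≤ C[W] ∨ (𝐐).relIndex A ^ 2 ≤ C[A].relIndex W := by
  have := h.sec (φ := tot (MonoidHom.id G)) le_top h1 h2 (h3.im _) h4 h5
  simpa [tot_im, tot_ker, comm_eq_bot'] using this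

theorem out (h0 : ¬ V ≤ 𝐐) : False := by
  have vH := h.vS.trans h.syl.le
  have nQ := O_norm {2} H
  have w : ∀ T ≤ H, PiG {2} T → V ≤ T → T ≤ N[V] := fun T a b c => by
    obtain ⟨g, hg, l⟩ := h.syl.cj_sub p2 a b
    have g1 : g ∈ N[V ⊔ 𝐐] := mem_N_of_cj_le (by
      rw [cj_sup, cj_of_mem_N (nQ hg)]; exact sup_le (h.wc g hg ((cj_mono g c).trans l)) le_sup_right)
    have g2 := h.nV (h.leM (normY h.nS (h.syl.le.trans nQ)) (fun d => h0 (le_sup_left.trans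
      (le_O (sup_le vH (O_le _ _)) d (h.pS.of_le (sup_le h.vS h.QS))))) ⟨hg, g1⟩)
    rw [← norm_cj (g := g), cj_of_mem_N g2]; exact l.trans h.nS
  have f : ∀ T ≤ H, PiG {2} T → T ≤ N[V] → FV V T := fun T a b c =>
    h.fv.of_syl (h.syl.sub (le_inf h.syl.le h.nS) inf_le_left) inf_le_right (le_inf a c) b
  have k : ∀ x ∈ H, ∀ L ≤ H, cj x V ≤ L → O[{2}](L) ≤ N[cj x V] ∧ FV (cj x V) O[{2}](L) :=
    fun x hx L a b => by
      have p := (O_pig {2} L).sup_l ((h.ab.pig p2).cj x) (b.trans (O_norm _ _))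
      have l := cj_le_of_mem (sup_le ((O_le {2} L).trans a) (b.trans a)) (normG H (inv_mem hx))
      have n1 := w _ l (p.cj x⁻¹) (le_cj_iff.2 (by rw [inv_inv]; exact le_sup_right))
      have n2 := (f _ l (p.cj x⁻¹) n1).cj x
      rw [← norm_cj (g := x)] at n1
      rw [cj_cj_inv] at n1 n2
      exact ⟨le_sup_left.trans n1, n2.mono le_sup_left⟩
  have : NC H V ≤ N[V] := NC_le fun x hx => by
    have l1 := sup_le vH (cj_le_of_mem vH (normG H hx))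
    have l := sup_le l1 (O_le {2} H)
    obtain ⟨a1, a2⟩ := k 1 (one_mem H) _ l (by rw [cj_one]; exact le_sup_left.trans le_sup_left)
    obtain ⟨b1, b2⟩ := k x hx _ l (le_sup_right.trans le_sup_left)
    rw [cj_one] at a1 a2
    exact le_sup_right.trans (w _ l1 (Pr.pig ⟨h.hyp, fun c => h.t (c.trans (cardS l)), (card_le l).trans h.le,
      O_pig _ _, l1.trans nQ, (inf_le_inf_right _ l).trans h.ch, h.ab, h.ab.cj x, a1, b1, a2, b2⟩) le_sup_left)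
  exact h0 ((le_O le_NC this (h.ab.pig p2)).trans (O_le_of_normal _ (NC_le' vH (normG H)) NC_norm))

theorem norm : H ≤ N[V] := by
  have vQ : V ≤ 𝐐 := by_contra h.out
  by_contra hn
  have nQ := O_norm {2} H
  have pQ := O_pig {2} H
  have QH := O_le {2} H
  have SH := h.syl.le
  have q1 : ∀ g ∈ H, FV (cj g V) 𝐐 := fun g hg => cj_of_mem_N (nQ hg) ▸ (h.fv.mono h.QS).cj g
  have q2 : ∀ g ∈ H, cj g V ≤ 𝐐 := fun g hg => cj_le_of_mem vQ (nQ hg)
  have ea : Abelem 2 (NC H V) := NC_abelem h.ab fun g hg k hk => by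
    have a := q1 g hg _ (q2 k hk) fun e he => (h.ab.cj k).pow e he ▸ one_mem _
    have b := q1 k hk _ (q2 g hg) fun e he => (h.ab.cj g).pow e he ▸ one_mem _
    have := relIndex_pos C[cj k V] (cj g V)
    have := (Nat.le_self_pow two_ne_zero _).trans a
    exact relIndex_eq_one.1 (by nlinarith)
  have fU := fv_NC ea.abel q1
  have nU : H ≤ N[NC H V] := NC_norm
  have UQ : NC H V ≤ 𝐐 := NC_le q2
  have VU : V ≤ NC H V := le_NC
  have gen : ∀ Y, V ≤ Y → 𝐊 ≤ N[Y] → NC H V ≤ Y := fun Y a b => NC_le fun g hg => by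
    obtain ⟨k, hk, s, hs, rfl⟩ := (mem_sup_l (SH.trans h.nK)).1 ((sup_comm _ _).trans h.sup ▸ hg)
    rw [cj_mul, cj_of_mem_N (h.nS hs)]; exact cj_le_of_mem a (b hk)
  generalize hU : NC H V = U at *
  have kU : ¬ 𝐊 ≤ C[U] := fun c => hn (h.sup.ge.trans (sup_le h.nS (cents_norm (c.trans (centS VU)))))
  obtain ⟨A, hA, aQ⟩ : ∃ A ∈ maxEA 2 S, ¬ A ≤ 𝐐 := by
    simpa [PLoc.JOf_le_iff] using h.nJ
  have ae : Abelem 2 A := abelem_iff.2 hA.2.1
  have VA : V ≤ C[A] := h.vJ.trans (centS (PLoc.le_JOf hA))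
  have a1 : 1 < (𝐐).relIndex A := lt_of_le_of_ne (relIndex_pos _ _) fun c => aQ (relIndex_eq_one.1 c.symm)
  have cU : C[U] ⊓ A ≤ 𝐐 := (le_inf (inf_le_right.trans hA.1) (le_inf (inf_le_right.trans (hA.1.trans SH))
    inf_le_left)).trans ((h.par inf_le_left (normI (normG H) (normC nU))).resolve_right fun c =>
      kU (res_le fun x hx o => (c x hx o).2))
  have i1 : C[A].relIndex U ≤ C[U].relIndex (A ⊓ 𝐐) * (𝐐).relIndex A := by
    rw [← idx_mul cU]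
    have e1 := (isProd_r (cents_norm inf_le_left : C[U] ⊓ A ≤ N[U])).card
    have e2 := hA.2.2 _ (sup_le (inf_le_right.trans hA.1) (UQ.trans h.QS))
      (abelem_iff.1 ((ae.of_le inf_le_right).sup ea inf_le_left))
    have e3 := card_le (inf_le_inf_right U (inf_le_right.trans ae.abel) : C[U] ⊓ A ⊓ U ≤ C[A] ⊓ U)
    have e4 := card_inf_mul_relIndex C[A] U
    have e5 := card_inf_mul_relIndex C[U] A
    refine Nat.le_of_mul_le_mul_left ?_ (Nat.mul_pos (card_pos (C[U] ⊓ A)) (card_pos (C[A] ⊓ U)))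
    rw [mul_assoc, e4, ← e1, mul_right_comm, e5]
    exact Nat.mul_le_mul e2 e3
  have i2 := (fU (A ⊓ 𝐐) inf_le_right fun e he => ae.pow e he.1 ▸ one_mem _).trans
    (idx_le (D := C[A]) (inf_le_left.trans (centS inf_le_left)))
  have i3 : C[A].relIndex U ≤ (𝐐).relIndex A ^ 2 := by
    have := Nat.le_of_mul_le_mul_left ((sq _).ge.trans (i2.trans i1)) (relIndex_pos _ _)
    nlinarith
  have c1 : ∀ W ≤ U, H ≤ N[W] → 𝐊 ≤ C[W] ∨ ⁅U, 𝐊⁆ ≤ W := fun W a b => by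
    by_contra c
    rw [not_or] at c
    have d1 := (h.sec0 (a.trans (UQ.trans QH)) b (ea.of_le a) hA.1 ae).resolve_left c.1
    have d2 := (h.sec (φ := quo W) b (UQ.trans QH) nU (ea.im _) hA.1 ae).resolve_left (by
      rw [quo_ker]; exact c.2)
    have d3 := ((Nat.mul_le_mul d1 d2).trans (idx_quo a (abel_norm ea.abel a) le_rfl)).trans i3
    have := Nat.one_lt_pow two_ne_zero a1
    nlinarith
  have n1 : H ≤ N[⁅𝐐, 𝐊⁆] := normR nQ h.nK
  have l1 : ⁅𝐐, 𝐊⁆ ≤ 𝐐 := commL (h.KH.trans nQ)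
  have l2 : ⁅𝐐, 𝐊⁆ ≤ 𝐊 := commR (QH.trans h.nK)
  have l3 := comm_res pQ QH nQ
  have l4 : ∀ T ≤ 𝐐, ⁅𝐐, 𝐊⁆ ≤ T → 𝐊 ≤ N[T] := fun T a b => norm_of_comm_le b a
  generalize ⁅𝐐, 𝐊⁆ = R at *
  by_cases r : V ≤ C[R]
  · have r1 := gen _ (centY (VA.trans (centS inf_le_left)) r) (normC (l4 (A ⊓ 𝐐 ⊔ R)
      (sup_le inf_le_right l1) le_sup_right))
    rw [relIndex_eq_one.2 (cent_symm (r1.trans (centS le_sup_left))), one_mul] at i1
    have := ((h.sec0 (UQ.trans QH) nU ea hA.1 ae).resolve_left kU).trans i1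
    nlinarith
  have rU := (l1.trans QH).trans nU
  have rV := (l1.trans h.QS).trans h.nS
  have n2 : H ≤ N[⁅U, R⁆] := normR nU n1
  have l5 : ⁅U, R⁆ ≤ U := commL rU
  rcases c1 _ l5 n2 with c | c
  swap
  · have e1 := gen (V ⊔ ⁅U, R⁆) le_sup_left (norm_of_comm_le (c.trans le_sup_right) (sup_le VU l5))
    have uV := abel_norm ea.abel VU
    have e2 : U ÷ V = ⊥ := by_contra fun d =>
      (((ea.pig p2).im (quo V)).comm_lt ((pQ.of_le l1).im _) (im_norm rU) d).not_ge (by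
        rw [← im_comm (φ := quo V) uV rV, quo_le_iff uV (l5.trans uV), sup_comm]; exact e1)
    exact hn (le_antisymm VU ((quo_bot_iff uV).1 e2) ▸ nU)
  have pU := (ea.pig p2).of_le l5
  obtain ⟨m, hm⟩ := pU.card_pow p2
  obtain _ | m := m
  · exact r (VU.trans (comm_eq_bot.1 (card_eq_one.1 hm)))
  obtain ⟨Y, y1, y2, y3⟩ := h.pS.exists_normal p2 (l5.trans (UQ.trans h.QS)) (SH.trans n2)
    (hm ▸ pow_dvd_pow 2 (Nat.le_succ m))
  have nY : H ≤ N[Y] := h.sup.ge.trans (sup_le y2 (cents_norm (c.trans (centS y1))))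
  have uY := (UQ.trans QH).trans nY
  have rY := (l1.trans QH).trans nY
  have kY := h.KH.trans nY
  have y4 : #(⁅U, R⁆ ÷ Y) = 2 := by
    have := card_mul_relIndex y1
    rw [card_quo (l5.trans uY)]
    rw [hm, y3, pow_succ] at this
    exact Nat.eq_of_mul_eq_mul_left (by positivity) this
  have c2 : 𝐊 ≤ C[U ⊓ (quo Y).pre C[R ÷ Y]] := by
    refine (c1 _ inf_le_left (normI nU (norm_pre nY (normC (im_norm n1))))).resolve_right fun d => ?_
    have d1 : ⁅⁅U, 𝐊⁆, R⁆ ≤ Y := (quo_cent_iff ((d.trans inf_le_left).trans uY) rY).1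
      ((le_pre_iff (φ := quo Y) ((d.trans inf_le_left).trans uY)).1 (d.trans inf_le_right))
    have d3 := three_subgroup_mod rY uY kY (by rw [commC R, comm_eq_bot'.2 c]; exact bot_le) d1
    have d4 : ⁅U, R⁆ ≤ Y := by rw [commC]; exact (commS (l3.trans_eq (commC _ _)) le_rfl).trans d3
    rw [(quo_bot_iff (l5.trans uY)).2 d4, card_bot'] at y4; omega
  have j1 := h.fv R (l1.trans h.QS) fun e he => PLoc.pow_mem_centralizer_of_quad (abelem_iff.1 h.ab) (rV he)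
    (comm_eq_bot.2 (centSS (cent_symm c) (commS VU (zpowers_le.2 he)) (zpowers_le.2 (l2 he))))
  have j2 := dual (V := V ÷ Y) ((pQ.of_le l1).im (quo Y)) fun q hq => y4 ▸ idx_C1_le fun v hv => by
    rw [im_comm (φ := quo Y) uY rY]; exact comm_mem (im_mono VU hv) hq
  rw [← relIndex_pre (φ := quo Y) _ (VU.trans uY), ← relIndex_pre (φ := quo Y) _ rY] at j2
  have j3 := (j1.trans (idx_le ((le_inf (inf_le_right.trans VU) inf_le_left).trans
    (cent_symm (l2.trans c2))))).trans (j2.trans (idx_le (D := C[V])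
      ((le_pre_iff (φ := quo Y) (inf_le_right.trans rY)).2 (im_cent inf_le_left))))
  have := relIndex_pos C[V] R
  exact r (cent_symm (relIndex_eq_one.1 (by nlinarith)))

end Mp

end Cfsg.Agent.S3F
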