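import Cfsg.Agent.S3F.Dat
import Cfsg.Agent.H8.SC

/-! # A strongly closed elementary abelian subgroup in a core-free section -/

set_option autoImplicit false
set_option linter.unusedVariables false
set_option linter.unusedSectionVars false

namespace Cfsg.Agent.S3F
open Cfsg Cfsg.Agent.BG Subgroup PHom
open Cfsg.Agent.Comp (QS CompIn Fit FStar Lay SubIn)
open Cfsg.Agent.PLoc (pResOf)

universe u

variable {G : Type u} [Group G] [Finite G] {G' : Type u} [Group G'] [Finite G']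
  {A B D E H I J K L M N O P Q R S T U V W X Y Z : Subgroup G} {a d g x y z w : G} {n : ℕ} {φ : PHom G G'}

theorem qs_im (h : QS L) (d : L ≤ φ.dom) (h1 : ¬ L ≤ φ.ker) : QS (φ.im L) := by
  rw [← im_eq_bot_iff d] at h1
  obtain ⟨L, rfl⟩ := exists_lift d
  rw [im_map] at h1 ⊢
  exact ((Comp.qs_map_iff φ.dom.subtype_injective).1 h).map_of_ne_bot _ h1

theorem not_cent (h : QS L) : ¬ L ≤ C[L] := fun c => h.not_comm (comm_eq_bot.2 c)

theorem cent_of_comm (h : QS L) (h1 : ⁅X, L⁆ ≤ C[L]) : X ≤ C[L] :=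
  comm_eq_bot.1 (Comp.comm_bot_of_perfect h.perfect (comm_eq_bot.2 h1))

theorem syl_comp (s : Syl 2 R H) (h : CompIn L H) : Syl 2 (R ⊓ L) L := by
  have := (s.inf_norm' Comp.Lay_le (Comp.Lay_normal H)).inf_norm' h.le_Lay h.Lay_normalizes
  rwa [inf_assoc, inf_eq_right.2 h.le_Lay] at this

theorem norm_of_cent (h : CompIn L H) (hx : x ∈ H) (y1 : y ∈ L) (y2 : y ∉ C[L]) (c : x ∈ C1[y]) : x ∈ N[L] :=
  mem_N_iff_cj.2 (((h.conj (normG H hx)).eq_or_comm h).resolve_right fun e => y2 (comm_eq_bot.1 e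
    (show y ∈ cj x L by rwa [mem_cj, mul_assoc, ← mem_C1.1 c, inv_mul_cancel_left])))

theorem site_of (hy : Hyp.{u} n) (t : ¬ 3 ∣ #H) (l : #H < n) (h : CompIn L H) (h1 : ¬ V ≤ C[L]) :
    Site n V (H ⊓ N[L]) L ⊥ (quo C[L]) := by
  have d : H ⊓ N[L] ≤ N[C[L]] := normC inf_le_right
  refine ⟨hy, d, le_inf h.le (normG L), inf_le_right, pig_bot _, (comm_eq_bot'.2 (inf_le_right.trans (quo_ker _).le)).le,
    qs_im h.qs (normC (normG L)) ((quo_ker C[L]).symm ▸ not_cent h.qs), ?_, fun c => t (c.trans (cardS inf_le_left)),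
    (card_le inf_le_left).trans_lt l, (quo_ker C[L]).symm ▸ h1⟩
  obtain ⟨B, b1, b2, e⟩ := exists_im_eq' (inf_le_left : (H ⊓ N[L]) ÷ C[L] ⊓ C[L ÷ C[L]] ≤ _)
  exact e ▸ (quo_bot_iff b2).2 (cent_of_comm h.qs ((quo_cent_iff b2 (normC (normG L))).1 (e.le.trans inf_le_right)))

theorem Site.pull {N' L' : Subgroup (Quo O)} {ψ : PHom (Quo O) G'} (h : Site n (V ÷ O) N' L' ⊥ ψ)
    (o : PiG {2}ᶜ O) (h1 : O ≤ H) (h2 : H ≤ N[O]) (h3 : N' ≤ H ÷ O) (h4 : V ≤ H) (t : ¬ 3 ∣ #H) (l : #H < n) :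
    Site n V ((quo O).pre N') ((quo O).pre L') O (ψ.comp (quo O)) := by
  have k := pre_le_of_le_im (φ := quo O) h2 ((quo_ker O).le.trans h1) h3
  refine ⟨h.hyp, pre_mono h.dom, pre_mono h.le, pre_norm h.nL, o, ?_, ?_, ?_, fun c => t (c.trans (cardS k)),
    (card_le k).trans_lt l, fun c => h.nk ((le_pre_iff (φ := quo O) (h4.trans h2)).1 (c.trans (comp_ker _ _).le))⟩
  · rw [comp_ker, ← pre_inf, ← quo_cent_iff (pre_le_dom (φ := quo O) _) (pre_le_dom (φ := quo O) _), quo_pre, quo_pre]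
    exact comm_eq_bot.1 (le_bot_iff.1 h.com)
  · rw [comp_im, quo_pre]; exact h.qs
  · rw [comp_im, comp_im, quo_pre, quo_pre]; exact h.fa

/-- the local configuration -/
structure Lc (n : ℕ) (H V : Subgroup G) : Prop where
  hyp : Hyp.{u} n
  t : ¬ 3 ∣ #H
  lt : #H < n
  O : O[{2}ᶜ](H) = ⊥
  ab : Abelem 2 V
  le : V ≤ H
  sc : SCl H V

namespace Lc
variable (h : Lc n H V)
include h

theorem cF : H ⊓ C[Lay H ⊔ O[{2}](H)] ≤ O[{2}](H) := by
  have f : Fit H ≤ O[{2}](H) := (le_F Comp.Fit_le (Comp.Fit_normal H) (Comp.Fit_nilpotent H)).trans (F_eq_O h.O).le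
  exact (inf_le_inf_left _ (centS (sup_le_sup_left f _))).trans ((Comp.centralizer_FStar_le_Fit H).trans f)

theorem syl : ∃ R, Syl 2 R H ∧ V ≤ R ∧ H ⊓ N[R] ≤ N[V] := by
  obtain ⟨R, a, b⟩ := syl_superset p2 h.le (h.ab.pig p2)
  exact ⟨R, a, b, h.sc.norm a.le a.pi b⟩

variable (hL : CompIn L H)
include hL

theorem as (s : Syl 2 R H) : ∃ Z, AS ((H ⊓ N[L]) ÷ C[L]) (L ÷ C[L]) ((R ⊓ L) ÷ C[L]) Z := by
  have k := site_of h.hyp h.t h.lt hL (not_cent hL.qs)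
  have d := (card_im_dvd (φ := quo C[L]) L).trans (cardS hL.le)
  exact as_of h.hyp k.qs (im_mono k.le) (im_norm k.nL) k.fa (fun c => h.t (c.trans d))
    ((Nat.le_of_dvd (card_pos _) d).trans_lt h.lt) ((syl_comp s hL).im (k.le.trans k.dom))

theorem zle (s : Syl 2 R H) : L ⊓ (quo C[L]).pre ((R ⊓ L) ÷ C[L]) = R ⊓ L := by
  have n := (inf_le_right : R ⊓ L ≤ L).trans (normC (normG L))
  have sub := (SubIn.of_normal inf_le_left (normZ (normG L))).trans hL.sub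
  have : Z[L] ≤ R := by
    rw [← ((abel_Z L).nil.dprod_O {2}).sup, eq_bot_iff.2 ((Fac.O_le_of_subIn sub).trans h.O.le), sup_bot_eq]
    exact (Fac.O_le_of_subIn sub).trans s.O_le
  rw [pre_quo n, inf_comm, modl_r n inf_le_right, sup_eq_left, inf_comm]
  exact le_inf this inf_le_left

theorem nV : V ≤ N[L] := fun v hv => by
  obtain ⟨R, s, l, nR⟩ := h.syl
  obtain ⟨Z, a⟩ := h.as hL s
  refine mem_N_iff_cj.2 (((hL.conj (normG H (h.le hv))).eq_or_comm hL).resolve_right fun e => a.nab ?_)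
  refine (quo_abel_iff (inf_le_right.trans (normC (normG L)))).2 (comm_le_iff.2 fun x hx y hy => ?_)
  have c : ∀ {x}, x ∈ L → v * x * v⁻¹ ∈ C[L] := fun hx => comm_eq_bot.1 e (mem_cj_conj.2 hx)
  have m : ∀ {x}, x ∈ R → x * (v * x⁻¹ * v⁻¹) ∈ V := fun {x} hx => by
    simpa [mul_assoc] using mul_mem (conj_mem (nR ⟨s.le hx, normG R hx⟩) hv) (inv_mem hv)
  have e1 := mem_C_comm h.ab.abel (m hx.1) (m hy.1)
  have x1 := c (inv_mem hx.2)
  have y1 := c (inv_mem hy.2)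
  generalize v * x⁻¹ * v⁻¹ = p at *
  generalize v * y⁻¹ * v⁻¹ = q at *
  convert conj_mem (normC (normG L) (mul_mem hy.2 hx.2)) (mul_mem (mul_mem y1 x1) (inv_mem (mul_mem x1 y1))) using 1
  calc _ = x * (y * p) * q * (p * q)⁻¹ * x⁻¹ * y⁻¹ := by group
    _ = y * (q * x) * p * (p * q)⁻¹ * x⁻¹ * y⁻¹ := by rw [mem_C.1 x1 y hy.2, ← mul_assoc, mul_assoc _ y, e1]; group
    _ = _ := by rw [← mem_C.1 y1 x hx.2]; group

theorem inQ (s : Syl 2 R H) (h1 : X ≤ R ⊓ N[L]) : X ≤ R ⊓ L ⊔ C[L] := by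
  obtain ⟨Z, a⟩ := h.as hL s
  exact (quo_le_iff (normC (h1.trans inf_le_right)) (inf_le_right.trans (normC (normG L)))).1
    (a.two (im_mono (h1.trans (inf_le_inf_right _ s.le))) ((s.pi.of_le (h1.trans inf_le_left)).im _)
      (im_norm (normI (normsG (h1.trans inf_le_left)) (h1.trans inf_le_right))))

theorem VL (h1 : ¬ V ≤ C[L]) : ∃ v ∈ V, v ∈ L ∧ v ∉ C[L] := by
  obtain ⟨R, s, l, nR⟩ := h.syl
  obtain ⟨Z, a⟩ := h.as hL s
  have nL := h.nV hL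
  have n := normC (normG L)
  have q := h.inQ hL s (le_inf l nL)
  by_contra c
  push Not at c
  refine h1 ((quo_bot_iff (normC nL)).1 (eq_bot_iff.2 fun x hx => a.nofix (D := L ÷ C[L] ⊓ N[(R ⊓ L) ÷ C[L]])
    le_sup_right ((quo_le_iff (normC nL) (inf_le_right.trans n)).2 q hx) (cent_symm ?_ hx)))
  rw [← im_inf_pre, quo_cent_iff (inf_le_left.trans n) (normC nL)]
  refine comm_le_iff.2 fun d hd v hv => c _ (mul_mem (h.sc R s.le s.pi l v hv d (hL.le hd.1) ?_) (inv_mem hv))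
    (by simpa [mul_assoc] using mul_mem hd.1 (conj_mem (nL hv) (inv_mem hd.1)))
  obtain ⟨p, hp, k, hk, rfl⟩ := (mem_sup_r (inf_le_right.trans n)).1 (q hv)
  rw [show d * (p * k) * d⁻¹ = d * p * d⁻¹ * (d * k * d⁻¹) by group, mem_C.1 hk d hd.1, mul_inv_cancel_right]
  refine mul_mem ((h.zle hL s).le ⟨conj_mem (normG L hd.1) hp.2, ?_⟩).1 (by simpa using mul_mem (inv_mem (mem_inf.1 hp).1) (l hv))
  exact conj_mem (pre_norm le_rfl hd.2) (le_pre_im (φ := quo C[L]) (inf_le_right.trans n) hp)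

theorem cv (h1 : ¬ V ≤ C[L]) : H ⊓ C[V] ≤ H ⊓ N[L] := fun x hx => by
  obtain ⟨v, a, b, c⟩ := h.VL hL h1
  exact ⟨hx.1, norm_of_cent hL hx.1 b c (C_le_C1 a hx.2)⟩

theorem cL (ha : a ∈ V) (a1 : a ∉ C[L]) (h1 : X ≤ H ⊓ C1[a]) (h2 : PiG {2}ᶜ X) (h3 : X ≤ C[O[{2}](H ⊓ C1[a])]) :
    X ≤ C[L] := by
  obtain ⟨R, s, l, nR⟩ := h.syl
  obtain ⟨Z, b⟩ := h.as hL s
  have n := normC (normG L)
  have na := h.nV hL ha
  have aZ : (quo C[L]).app a ∈ Z := b.inv _ ((quo_le_iff (normC (h.nV hL)) (inf_le_right.trans n)).2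
    (h.inQ hL s (le_inf l (h.nV hL))) (app_mem_im ha (normC le_rfl na)))
    ((pow_two _).symm.trans ((h.ab.im _).pow _ (app_mem_im ha (normC le_rfl na))))
  have a2 : (quo C[L]).app a ≠ 1 := fun e => a1 ((quo_ker C[L]).le (mem_ker.2 ⟨normC le_rfl na, e⟩))
  have e : L ÷ C[L] ⊓ C1[(quo C[L]).app a] = (R ⊓ L) ÷ C[L] :=
    le_antisymm (b.c1 _ aZ a2) (le_inf b.syl.le (le_C1_iff.2 (b.zc aZ)))
  have c1 : L ⊓ C1[a] ≤ R ⊓ L := (h.zle hL s).le.trans' (le_inf inf_le_left ((le_pre_iff (φ := quo C[L])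
    (inf_le_left.trans n)).2 ((le_inf (im_mono inf_le_left) (im_C1 (normC le_rfl na) inf_le_right)).trans e.le)))
  have c2 : X ≤ C[L ⊓ C1[a]] := h3.trans (centS (Fac.le_O_of_subIn (hL.sub.inf _) (s.pi.of_le (c1.trans inf_le_left))))
  obtain ⟨v, v1, v2, v3⟩ := h.VL hL fun c => a1 (c ha)
  have nX : X ≤ N[L] := fun x hx => norm_of_cent hL (h1 hx).1 v2 v3
    (C_le_C1 (mem_inf.2 ⟨v2, C_le_C1 ha (h.ab.abel v1)⟩) (c2 hx))
  have nP : X ≤ N[R ⊓ L] := h.zle hL s ▸ normI nX (norm_pre (φ := quo C[L]) (normC nX) (e ▸ normI (im_norm nX)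
    (normC1 (im_C1 (normC le_rfl na) (h1.trans inf_le_right)))))
  have p := s.pi.of_le (inf_le_left : R ⊓ L ≤ R)
  refine (quo_bot_iff (normC nX)).1 (b.aut (im_mono (le_inf (h1.trans inf_le_left) nX)) (h2.im _) (im_cent
    (pq_lemma s.pi.nil (zpowers_le.2 (l ha)) inf_le_left (zpowers_le.2 (le_C1_iff.1 (h1.trans inf_le_right)))
      (h2.coprime' p) (normI (normsG (zpowers_le.2 (l ha))) (zpowers_le.2 na)) nP ?_)))
  rw [C_zpowers]; exact (inf_le_inf_right _ inf_le_right).trans (cent_symm c2)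

omit hL in
theorem odd (ha : a ∈ V) (h1 : X ≤ H ⊓ C1[a]) (h2 : PiG {2}ᶜ X) (h3 : X ≤ C[O[{2}](H ⊓ C1[a])])
    (h4 : ∀ L, CompIn L H → a ∈ C[L] → X ≤ C[L]) : X = ⊥ := by
  have pa := (h.ab.pig p2).of_le (zpowers_le.2 ha)
  have n := (zpowers_le.2 (h.le ha)).trans (O_norm {2} H)
  refine ((O_pig {2} H).of_le ((le_inf (h1.trans inf_le_left) (centY (cent_symm (Comp.Lay_le_iff.2 fun L hL =>
    cent_symm ?_)) ?_)).trans h.cF)).eq_bot h2
  · by_cases c : a ∈ C[L]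
    exacts [h4 L hL c, h.cL hL ha c h1 h2 h3]
  · refine pq_lemma ((O_pig {2} H).sup_l pa n).nil le_sup_right le_sup_left
      (zpowers_le.2 (le_C1_iff.1 (h1.trans inf_le_right))) (h2.coprime' (O_pig _ _)) n
      (h1.trans (inf_le_left.trans (O_norm _ _))) ((?_ : _ ≤ O[{2}](H ⊓ C1[a])).trans (cent_symm h3))
    rw [C_zpowers]; exact (le_inf inf_le_left (inf_le_inf_right _ (O_le _ _))).trans (O_inf_le _ inf_le_left)

omit hL in
theorem bal (ha : a ∈ V) : O[{2}ᶜ](H ⊓ C1[a]) = ⊥ :=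
  h.odd ha (O_le _ _) (O_pig _ _) (O_cent_O' _ _) fun L hL c =>
    have k := hL.restrict (le_inf hL.le (le_C1_iff.2 c)) inf_le_left
    comm_eq_bot'.1 (k.comm_of_solvable (O_le _ _) (H8.sol_of_odd (O_pig _ _)) (k.le.trans (O_norm _ _)))

omit hL in
theorem term (ha : a ∈ V) (hJ : CompIn J (H ⊓ C1[a])) : CompIn J H := by
  by_contra c
  refine odd_central hJ.qs fun x hx o => ?_
  rw [zpowers_eq_bot.1 (h.odd ha (zpowers_le.2 (hJ.le hx)) (pig_zpowers.2 o) (zpowers_le.2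
    (cent_symm (O_cent_comp hJ) hx)) fun L hL d => zpowers_le.2 (comm_eq_bot.1 ((hJ.eq_or_comm
      (hL.restrict (le_inf hL.le (le_C1_iff.2 d)) inf_le_left)).resolve_left fun e => c (e ▸ hL)) hx))]
  exact one_mem _

omit hL in
theorem gen : H ≤ Lay H ⊔ H ⊓ N[V] := by
  obtain ⟨R, s, l, nR⟩ := h.syl
  have KH : NC H V ≤ H := NC_le' h.le (normG H)
  have nE := Comp.Lay_normal H
  have k1 : ∀ L, CompIn L H → NC H V ≤ L ⊔ C[L] := fun L hL => NC_le fun g hg => by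
    have hL' := hL.conj (normG H (inv_mem hg))
    have := h.inQ hL' s (le_inf l (h.nV hL'))
    rw [cj_le_iff, cj_sup, cj_C]
    exact this.trans (sup_le_sup_right inf_le_right _)
  obtain ⟨J, -, ⟨j1, j2, j3⟩, m⟩ := exists_maximal (A := ⊥)
    (P := fun J => J ≤ Lay H ∧ Lay H ≤ N[J] ∧ NC H V ≤ Lay H ⊔ H ⊓ C[J])
    ⟨bot_le, norm_bot _, by rw [C_bot, inf_top_eq]; exact KH.trans le_sup_right⟩
  have k2 : Lay H ≤ J := Comp.Lay_le_iff.2 fun L hL => by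
    refine (hL.le_or_comm ((SubIn.of_normal j1 j2).trans (Comp.Lay_subIn H))).elim id fun c => ?_
    refine le_sup_right.trans (m (J ⊔ L) ⟨sup_le j1 hL.le_Lay, normY j2 hL.Lay_normalizes, fun x hx => ?_⟩
      le_sup_left).le
    obtain ⟨e, he, y, hy, rfl⟩ := (mem_sup_l (inf_le_left.trans nE)).1 (j3 hx)
    have e1 : Lay H ≤ L ⊔ C[L] := Comp.Lay_le_iff.2 fun K hK => (hK.eq_or_comm hL).elim (fun e => e ▸ le_sup_left)
      fun e => (comm_eq_bot.1 e).trans le_sup_right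
    obtain ⟨p, hp, q, hq, rfl⟩ := (mem_sup_l (C_le_N L)).1
      (by simpa using mul_mem (inv_mem (e1 he)) (k1 L hL hx) : y ∈ L ⊔ C[L])
    rw [← mul_assoc, C_sup]
    exact mul_mem_sup' (mul_mem he (hL.le_Lay hp)) ⟨by simpa using mul_mem (inv_mem (hL.le hp)) hy.1,
      by simpa using mul_mem (inv_mem (comm_eq_bot'.1 c hp)) hy.2, hq⟩
  have nO := O_norm {2} H
  have n0 : H ≤ N[V ⊓ O[{2}](H)] := fun g hg => mem_N_of fun v hv =>
    ⟨h.sc R s.le s.pi l v hv.1 g hg (s.O_le (conj_mem (nO hg) hv.2)), conj_mem (nO hg) hv.2⟩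
  have k3 : ⁅O[{2}](H), NC H V⁆ ≤ V ⊓ O[{2}](H) := by
    rw [← quo_cent_iff ((O_le _ _).trans n0) (KH.trans n0), centC, ← le_pre_iff (φ := quo _) (KH.trans n0)]
    refine NC_le' ?_ (norm_pre (φ := quo _) n0 (normC (im_norm nO)))
    rw [le_pre_iff (φ := quo _) (h.le.trans n0), centC, quo_cent_iff ((O_le _ _).trans n0) (h.le.trans n0)]
    exact le_inf (commR ((le_inf (O_le _ _) (normsG s.O_le)).trans nR)) (commL (h.le.trans nO))
  have k4 : NC H V ≤ C[V ⊓ O[{2}](H)] := NC_le' (h.ab.abel.trans (centS inf_le_left)) (normC n0)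
  have RV : R ≤ H ⊓ N[V] := le_inf s.le ((le_inf s.le (normG R)).trans nR)
  have k5 : pResOf 2 (NC H V) ≤ Lay H ⊔ H ⊓ N[V] := res_le fun x hx o => by
    have c := cent_symm (cop_stable (cop2 ((O_pig _ _).of_le inf_le_right) o) ((commS le_rfl (zpowers_le.2 hx)).trans k3)
      (cent_symm (zpowers_le.2 (k4 hx)))) (mem_zpowers x)
    obtain ⟨e, he, y, hy, rfl⟩ := (mem_sup_l (inf_le_left.trans nE)).1 (j3 hx)
    refine mul_mem_sup' he (RV (s.O_le (h.cF ⟨hy.1, (C_sup _ _).ge ⟨centS k2 hy.2, ?_⟩⟩)))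
    simpa using mul_mem (inv_mem (cent_symm (Comp.Lay_le_iff.2 fun L hL => cent_symm (O_cent_comp hL)) |> cent_symm <| he)) c
  have s1 := s.inf_norm' KH NC_norm
  refine (Syl.frattini s1 p2 KH NC_norm).sup.ge.trans (sup_le (((syl_iff' p2).1 s1).sup_pResOf.ge.trans
    (sup_le (inf_le_left.trans (RV.trans le_sup_right)) k5)) (le_sup_right.trans' (le_inf inf_le_left ?_)))
  exact h.sc.norm (inf_le_left.trans s.le) s1.pi (le_inf l le_NC)

end Lc

end Cfsg.Agent.S3F
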