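import Cfsg.Agent.SE.Fin

/-! # Simple `3'`-groups with a strongly embedded subgroup -/

set_option autoImplicit false
set_option linter.unusedVariables false
set_option linter.unusedSectionVars false

namespace Cfsg.Agent.S3F
open Cfsg Cfsg.Agent.BG Cfsg.Agent.Inv MulAction Subgroup

theorem three_dvd_add {n : ℕ} (h : Odd n) : 3 ∣ 2 ^ n + 1 := by
  obtain ⟨k, rfl⟩ := h
  have : (2 ^ 2) ^ k % 3 = 1 := by simp [Nat.pow_mod]
  rw [pow_succ, pow_mul]; omega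

theorem three_dvd_sub {n m : ℕ} (h : ¬ Odd n) (e : m + 1 = 2 ^ n) : 3 ∣ m := by
  obtain ⟨k, rfl⟩ := Nat.not_odd_iff_even.1 h
  have : (2 ^ 2) ^ k % 3 = 1 := by simp [Nat.pow_mod]
  rw [← two_mul, pow_mul] at e; omega

theorem dvd_of_pow_sub {b n x y : ℕ} (h : x ∣ y) (e1 : x + 1 = 2 ^ b) (e2 : y + 1 = 2 ^ n) : b ∣ n := by
  have h1 := Nat.pow_sub_one_gcd_pow_sub_one 2 b n
  rw [← e1, ← e2, Nat.add_sub_cancel, Nat.add_sub_cancel, Nat.gcd_eq_left h] at h1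
  have h2 : 2 ^ b = 2 ^ b.gcd n := by
    have := Nat.one_le_two_pow (n := b.gcd n); omega
  rw [Nat.pow_right_injective le_rfl h2]; exact Nat.gcd_dvd_right _ _

section
variable {L : Type*} [Group L] [Finite L]

/-- the fixed points of an automorphism -/
abbrev Fx (β : MulAut L) : Subgroup L := β.toMonoidHom.eqLocus (MonoidHom.id L)

theorem mem_Fx {β : MulAut L} {x : L} : x ∈ Fx β ↔ β x = x := Iff.rfl

theorem exists_fixed_inv {α : MulAut L} (h : ∀ x, α (α x) = x) {s : L} (hs : orderOf s = 2) :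
    ∃ z, orderOf z = 2 ∧ α z = z := by
  have s2 := (ord2_iff.1 hs).1
  have a2 : α s * α s = 1 := by rw [← map_mul, s2, map_one]
  set x := s * α s with hx
  have e1 : α x = x⁻¹ := by
    rw [hx, map_mul, h, mul_inv_rev, inv_of_ord2 hs, inv_eq_of_mul_eq_one_left a2]
  have e2 : s * x * s⁻¹ = x⁻¹ := by
    rw [← e1, hx, map_mul, h, ← mul_assoc, s2, one_mul, inv_of_ord2 hs]
  rcases Nat.even_or_odd' (orderOf x) with ⟨k, hk | hk⟩
  · have k0 : k ≠ 0 := fun e => by have := orderOf_pos x; omega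
    have o : orderOf (x ^ k) = 2 := by
      rw [orderOf_pow' _ k0, hk, Nat.gcd_eq_right (Dvd.intro_left 2 rfl), Nat.mul_div_cancel _ (by omega)]
    exact ⟨_, o, by rw [map_pow, e1, inv_pow, inv_of_ord2 o]⟩
  · have e3 : s * x ^ k * s⁻¹ = (x ^ k)⁻¹ := by rw [← conj_pow, e2, inv_pow]
    have e4 : x ^ k * x * x ^ k = 1 := by
      rw [← pow_succ, ← pow_add, show k + 1 + k = 2 * k + 1 by ring, ← hk, pow_orderOf_eq_one]
    have e5 : α s = s * x := by rw [hx, ← mul_assoc, s2, one_mul]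
    refine ⟨s * x ^ k * x, ?_, ?_⟩
    · have : s * x ^ k * x = (x ^ k)⁻¹ * α s := by rw [e5, ← e3]; group
      have e6 : s * x ^ k * x = (s * x) * (x ^ k) := by rw [mul_assoc, mul_assoc, pow_mul_comm']
      have e7 : s * x ^ k * x * (s * x ^ k * x) = 1 := by
        calc s * x ^ k * x * (s * x ^ k * x) = (s * x ^ k * s⁻¹) * (s * x * s⁻¹) * (s * s) * (x ^ k * x) := by
              group
          _ = 1 := by rw [e3, e2, s2, ← mul_inv_rev, ← pow_mul_comm']; group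
      refine ord2_iff.2 ⟨e7, fun e => ?_⟩
      have e8 : s = x ^ k := by
        have : s * (x ^ k * x * x ^ k) = x ^ k := by rw [← mul_assoc, ← mul_assoc, e, one_mul]
        rwa [e4, mul_one] at this
      have : orderOf s ∣ 2 * k + 1 := by rw [e8, ← hk]; exact orderOf_pow_dvd _
      rw [hs] at this; omega
    · rw [map_mul, map_mul, map_pow, e1, e5, inv_pow]
      calc s * x * (x ^ k)⁻¹ * x⁻¹ = s * (x ^ k)⁻¹ := by
            rw [mul_assoc s, mul_assoc s, ← inv_pow, (Commute.refl x).inv_right.pow_right k |>.eq]; group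
        _ = s * (x ^ k)⁻¹ * (x ^ k * x * x ^ k) := by rw [e4, mul_one]
        _ = s * x ^ k * x := by rw [mul_assoc s (x ^ k), pow_mul_comm']; group

theorem card_le_Fx_sq {β : MulAut L} (h : ∀ x, β (β x) = x) {V : Subgroup L} (h1 : Abel V)
    (h2 : ∀ x ∈ V, x * x = 1) (h3 : ∀ x ∈ V, β x ∈ V) : #V ≤ #(V ⊓ Fx β) ^ 2 := by
  let φ : V →* L := ⟨⟨fun x => x * β x, by simp⟩, fun x y => by
    have := mem_C_comm h1 y.2 (h3 x x.2)
    simp only [coe_mul, map_mul]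
    rw [mul_assoc, ← mul_assoc (y : L), this]; group⟩
  have e1 : φ.range ≤ V ⊓ Fx β := by
    rintro _ ⟨x, rfl⟩
    refine mem_inf.2 ⟨mul_mem x.2 (h3 x x.2), ?_⟩
    show β (x * β x) = x * β x
    rw [map_mul, h, mem_C_comm h1 x.2 (h3 x x.2)]
  have e2 : φ.ker.map V.subtype ≤ V ⊓ Fx β := by
    rintro _ ⟨x, hx, rfl⟩
    refine mem_inf.2 ⟨x.2, ?_⟩
    have : (x : L) * β x = 1 := hx
    show β x = x
    rw [← h2 x x.2] at this; exact mul_left_cancel this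
  have e3 := φ.ker.card_mul_index
  rw [index_ker] at e3
  have e4 := card_le e2
  rw [card_map_inj V.subtype_injective] at e4
  rw [← e3, sq]; exact Nat.mul_le_mul e4 (card_le e1)

variable {Ω : Type*} [MulAction L Ω] {a : Ω} {t : L} {Q : Subgroup L} (S : R1 L Ω a t Q) (h4 : Four L)
  [FaithfulSMul L Ω] [IsSimpleGroup L] (h3 : ¬ 3 ∣ Nat.card L)
include S h4 h3

theorem sz_card : IsPGroup 2 Q ∧ ¬ IsMulCommutative Q ∧ #Q = #(S.Q0 h4) ^ 2 ∧
    ∃ n, Odd n ∧ #(S.Q0 h4) = 2 ^ n := by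
  obtain ⟨n, -, hn⟩ := S.card_Q0 h4
  have c := S.card_G
  have k := S.card_K' h4
  have o : Odd n := by_contra fun o => h3 (by
    rw [c]; exact (((three_dvd_sub o (k.trans hn)).trans (cardS (S.K_le h4))).mul_left _).mul_right _)
  obtain ⟨h1, h | ⟨h5, h | ⟨h, -⟩⟩⟩ := S.isTT h4
  · have : Q = S.Q0 h4 := le_antisymm (fun u hu => ⟨S.fix hu, h u hu⟩) (S.Q0_le h4)
    exact (h3 (by rw [c]; refine Dvd.dvd.mul_left ?_ _; rw [this, hn]; exact three_dvd_add o)).elim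
  · exact ⟨h1, h5, S.n2_eq h4 ▸ h, n, o, hn⟩
  · exact (h3 (by
      rw [c]; refine Dvd.dvd.mul_left ?_ _
      rw [h, S.n2_eq h4, hn, ← pow_mul]; exact three_dvd_add (o.mul (by decide)))).elim

theorem K_eq : S.K h4 = St2 L a (t • a) :=
  have := sz_card S h4 h3
  S.K_eq_b h4 this.1 this.2.1 this.2.2.1

theorem out1 {β : MulAut L} (h : ∀ x, β (β x) = x) (ht : β t = t) (hH : ∀ g : L, g • a = a → β g • a = a)
    (hQ : ∀ u ∈ Q, β u ∈ Q) (g : L) : β g = g := by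
  obtain ⟨q2, -, cQ, n, on, c0⟩ := sz_card S h4 h3
  obtain ⟨s, r, s1, s2, r1, e⟩ := S.struct
  obtain ⟨bs, br⟩ := S.struct_unique (hH s s2) (hQ r r1)
    (by simpa [ht] using congrArg β e) s2 r1 e
  have b0 : ∀ x ∈ S.Q0 h4, β x ∈ S.Q0 h4 := fun x hx => ⟨hH x hx.1, by rw [← map_mul, hx.2, map_one]⟩
  have bK : ∀ k ∈ S.K h4, β k ∈ S.K h4 := fun k hk => by
    refine ⟨⟨hH k hk.1.1, ?_⟩, by simpa [ht] using congrArg β hk.2⟩
    have := hH _ (S.conjD hk.1).1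
    rw [map_mul, map_mul, map_inv, ht, S.tinv, mul_smul, mul_smul] at this
    show β k • t • a = t • a
    rw [← S.tt (β k • t • a), this]
  have c1 : #(S.K h4 ⊓ Fx β) + 1 = #(S.Q0 h4 ⊓ Fx β) := by
    have e1 : ((S.Q0 h4 ⊓ Fx β : Subgroup L) : Set L) =
        insert 1 ((fun k => k * s * k⁻¹) '' (S.K h4 ⊓ Fx β : Subgroup L)) := by
      ext x
      constructor
      · intro hx
        by_cases x1 : x = 1
        · exact Or.inl x1
        obtain ⟨k, k1, k2, rfl⟩ := S.K_trans s1 s2 (ord2_iff.2 ⟨hx.1.2, x1⟩) hx.1.1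
        have := bK k ⟨k1, k2⟩
        refine Or.inr ⟨k, ⟨⟨k1, k2⟩, S.K_inj this.1 this.2 k1 k2 s1 s2 ?_⟩, rfl⟩
        simpa [bs] using mem_Fx.1 hx.2
      · rintro (rfl | ⟨k, hk, rfl⟩)
        · exact one_mem _
        · refine ⟨S.conj_Q0 h4 hk.1.1.1 ⟨s2, (ord2_iff.1 s1).1⟩, ?_⟩
          show β _ = _
          simp [bs, mem_Fx.1 hk.2]
    change Set.ncard ((S.K h4 ⊓ Fx β : Subgroup L) : Set L) + 1 = Set.ncard ((S.Q0 h4 ⊓ Fx β : Subgroup L) : Set L)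
    rw [e1, Set.ncard_insert_of_notMem, Set.InjOn.ncard_image]
    · exact fun k hk k' hk' e => S.K_inj hk.1.1 hk.1.2 hk'.1.1 hk'.1.2 s1 s2 e
    · rintro ⟨k, -, hk⟩
      exact (ord2_iff.1 s1).2 (by simpa [mul_inv_eq_iff_eq_mul] using hk)
  have pq : PiG {2} Q := (pig_iff Nat.prime_two).2 q2
  obtain ⟨b, hb⟩ := (pq.of_le (inf_le_left.trans (S.Q0_le h4) : S.Q0 h4 ⊓ Fx β ≤ Q)).card_pow Nat.prime_two
  have ck := (S.card_K' h4).trans c0
  have d1 := dvd_of_pow_sub (cardS (inf_le_left : S.K h4 ⊓ Fx β ≤ _)) (c1.trans hb) ck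
  have d2 := card_le_Fx_sq h (abel_of (S.Q0_comm h4)) (fun x hx => hx.2) b0
  rw [c0, hb, ← pow_mul, Nat.pow_le_pow_iff_right one_lt_two] at d2
  have bn : b = n := by
    obtain ⟨c, rfl⟩ := d1
    have c2 : c ≤ 2 := by
      rcases Nat.eq_zero_or_pos b with rfl | hp
      · simp at on
      · exact Nat.le_of_mul_le_mul_left d2 hp
    have := (Nat.odd_mul.1 on).2
    interval_cases c
    · simp at this
    · simp
    · exact absurd this (by decide)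
  have f0 : S.Q0 h4 ≤ Fx β := inf_eq_left.1 (eq_of_card_le inf_le_left (by rw [c0, hb, bn]))
  have fK : S.K h4 ≤ Fx β := inf_eq_left.1 (eq_of_card_le inf_le_left (by rw [hb, bn, ← ck] at c1; omega))
  have fQ : Q ≤ Fx β := by
    obtain ⟨m, hm⟩ := (pq.of_le (inf_le_left : Q ⊓ Fx β ≤ Q)).card_pow Nat.prime_two
    have sr : Semireg (Q ⊓ Fx β) (S.K h4) := fun k hk k1 =>
      eq_bot_iff.2 ((inf_le_inf_right _ inf_le_left).trans (S.fpf hk.1 hk.2 k1).le)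
    have d3 := sr.card_dvd (normI (fun k hk => S.norm hk.1.1) (normsG fK))
    have d4 := dvd_of_pow_sub d3 ck (by have := card_pos (Q ⊓ Fx β); omega : #(Q ⊓ Fx β) - 1 + 1 = 2 ^ m)
    have l1 := card_le (le_inf (S.Q0_le h4) f0)
    have l2 := card_le (inf_le_left : Q ⊓ Fx β ≤ Q)
    rw [hm, cQ, c0, ← pow_mul, Nat.pow_le_pow_iff_right one_lt_two] at l2
    rw [hm, c0, Nat.pow_le_pow_iff_right one_lt_two] at l1
    obtain ⟨c, rfl⟩ := d4
    have c2 : c ≤ 2 := Nat.le_of_mul_le_mul_left l2 on.pos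
    have := on.pos
    interval_cases c
    · omega
    · have e1 := eq_of_card_le (le_inf (S.Q0_le h4) f0) (by rw [hm, c0, mul_one])
      have r0 : r ∈ S.Q0 h4 := e1 ▸ mem_inf.2 ⟨r1, br⟩
      have e2 := S.eq_of_sq (S.inv_Q (ord2_iff.1 s1).1 s2) r1 e r0.2
      subst e2
      have e3 : (t * r) ^ 3 = 1 := by
        calc (t * r) ^ 3 = (t * r * t) * (r * t * r) := by rw [pow_succ, sq]; group
          _ = r⁻¹ * t * (r * r) * t * r := by rw [e]; group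
          _ = 1 := by rw [r0.2, mul_one, mul_assoc r⁻¹, S.mul_self]; group
      have e4 : t * r ≠ 1 := fun e5 => S.ne (by
        rw [eq_inv_of_mul_eq_one_left e5, inv_smul_eq_iff, s2])
      exact (h3 (orderOf_of_pow Nat.prime_three e3 e4 ▸ orderOf_dvd_natCard _)).elim
    · exact inf_eq_left.1 (eq_of_card_le inf_le_left (by rw [hm, cQ, c0, ← pow_mul]))
  have fH : ∀ g : L, g • a = a → g ∈ Fx β := fun g hg => by
    obtain ⟨u, hu, d, hd, rfl⟩ := S.exists_mul hg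
    exact mul_mem (fQ hu) (fK (K_eq S h4 h3 ▸ hd))
  by_cases hg : g • a = a
  · exact fH g hg
  obtain ⟨x, hx, y, hy, rfl⟩ := S.bruhat hg
  exact (mul_mem (mul_mem (fH x hx) ht) (fQ hy) : _ ∈ Fx β)

theorem out0 {α : MulAut L} (h : ∀ x, α (α x) = x) {z : L} (hz : orderOf z = 2) (hza : z • a = a)
    (e : α z = z) : ∃ y, ∀ x, α x = y * x * y⁻¹ := by
  have z0 : z ∈ S.Q0 h4 := ⟨hza, (ord2_iff.1 hz).1⟩
  have hQ : ∀ u ∈ Q, α u ∈ Q := fun u hu => by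
    have e1 : α u * z = z * α u := by rw [← e, ← map_mul, ← map_mul, S.Q0_cent h4 z0 hu]
    obtain ⟨v, hv, d, hd, e2⟩ := S.exists_mul (S.fix_of_comm hz hza e1)
    have k := (K_eq S h4 h3).ge hd
    have : d = 1 := S.K_free k.1 k.2 hz hza (by
      have e3 := S.Q0_cent h4 z0 hv
      calc d * z * d⁻¹ = v⁻¹ * (v * d * z) * d⁻¹ := by group
        _ = v⁻¹ * (z * v) := by rw [e2, e1, ← e2]; group
        _ = z := by rw [e3]; group)
    rw [← e2, this, mul_one]; exact hv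
  have zQ := S.Q0_le h4 z0
  have hH : ∀ g : L, g • a = a → α g • a = a := fun g hg =>
    S.fix_of_conj zQ (ord2_iff.1 hz).2 (by simpa [e] using S.fix (hQ _ (S.conjQ hg zQ)))
  have w1 : α t • a ≠ a := fun e1 => S.ne (by simpa [h] using hH _ e1)
  obtain ⟨u, hu, e1⟩ := S.trans w1 S.ne
  obtain ⟨k1, k2⟩ := S.swap_inv (w := u * α t * u⁻¹) (by rw [conj_mul, ← map_mul, S.mul_self]; simp)
    (by rw [mul_smul, mul_smul, S.fix (inv_mem hu), e1])
  obtain ⟨m, hm⟩ := exists_sqrt_of_odd (S.oddD k1)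
  generalize hk : t * (u * α t * u⁻¹) = k at k1 k2 hm
  have l1 : t * k ^ m * t⁻¹ = (k ^ m)⁻¹ := by rw [← conj_pow, k2, inv_pow]
  have l2 := (St2 L a (t • a)).pow_mem k1 m
  generalize k ^ m = l at hm l1 l2
  have j1 : (l * u) • a = a := by rw [mul_smul, S.fix hu]; exact l2.1
  have j2 : l * u * α t * (l * u)⁻¹ = t := by
    calc l * u * α t * (l * u)⁻¹ = l * t⁻¹ * (t * (u * α t * u⁻¹)) * l⁻¹ := by group
      _ = t⁻¹ * (t * l * t⁻¹) * l := by rw [hk, ← hm, S.tinv]; nth_rw 2 [← S.tinv]; group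
      _ = t := by rw [l1, S.tinv]; group
  generalize l * u = j at j1 j2
  have j3 : j * α j = 1 := by
    have c : j * α j * t * (j * α j)⁻¹ = t := by
      have := congrArg α j2
      simp only [map_mul, map_inv, h] at this
      calc j * α j * t * (j * α j)⁻¹ = j * (α j * t * (α j)⁻¹) * j⁻¹ := by group
        _ = t := by rw [this, j2]
    have f : (j * α j) • a = a := by rw [mul_smul, hH j j1, j1]
    generalize j * α j = i at c f
    have c' : t * i * t⁻¹ = i := by rw [mul_inv_eq_iff_eq_mul] at c ⊢; exact c.symm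
    have k := (K_eq S h4 h3).ge (show i ∈ St2 L a (t • a) from
      ⟨f, by show i • t • a = t • a; rw [← mul_smul, mul_inv_eq_iff_eq_mul.1 c, mul_smul, f]⟩)
    exact sq_inj_of_odd (S.oddD k.1) (by simp) (by nth_rw 1 [← c', k.2]; simp)
  refine ⟨j⁻¹, fun x => ?_⟩
  have := out1 S h4 h3 (β := MulAut.conj j * α) (fun x => by
      show j * α (j * α x * j⁻¹) * j⁻¹ = x
      simp only [map_mul, map_inv, h]
      calc j * (α j * x * (α j)⁻¹) * j⁻¹ = (j * α j) * x * (j * α j)⁻¹ := by group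
        _ = x := by rw [j3]; simp)
    j2 (fun g hg => by
      show (j * α g * j⁻¹) • a = a
      rw [mul_smul, mul_smul, inv_smul_eq_iff.2 j1.symm, hH g hg, j1])
    (fun u hu => S.conjQ j1 (hQ u hu)) x
  nth_rw 2 [← (show j * α x * j⁻¹ = x from this)]; simp [mul_assoc]

theorem out {α : MulAut L} (h : ∀ x, α (α x) = x) : ∃ y, ∀ x, α x = y * x * y⁻¹ := by
  obtain ⟨z, hz, e⟩ := exists_fixed_inv h S.ord
  obtain ⟨c, hc⟩ := S.exists_fix hz
  obtain ⟨g, rfl⟩ := S.tr1 c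
  obtain ⟨y, hy⟩ := out0 S h4 h3 (α := MulAut.conj g⁻¹ * α * MulAut.conj g) (z := g⁻¹ * z * g)
    (fun x => by
      show g⁻¹ * α (g * (g⁻¹ * α (g * x * g⁻¹) * g⁻¹⁻¹) * g⁻¹) * g⁻¹⁻¹ = x
      rw [show g * (g⁻¹ * α (g * x * g⁻¹) * g⁻¹⁻¹) * g⁻¹ = α (g * x * g⁻¹) by group, h]; group)
    (by simpa using SE.ord_conj hz g⁻¹) (by rw [mul_smul, mul_smul, hc, inv_smul_smul])
    (by
      show g⁻¹ * α (g * (g⁻¹ * z * g) * g⁻¹) * g⁻¹⁻¹ = _
      rw [show g * (g⁻¹ * z * g) * g⁻¹ = z by group, e, inv_inv])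
  refine ⟨g * y * g⁻¹, fun x => ?_⟩
  have : g⁻¹ * α (g * (g⁻¹ * x * g) * g⁻¹) * g⁻¹⁻¹ = _ := hy (g⁻¹ * x * g)
  rw [show g * (g⁻¹ * x * g) * g⁻¹ = x by group] at this
  calc α x = g * (g⁻¹ * α x * g⁻¹⁻¹) * g⁻¹ := by group
    _ = _ := by rw [this]; group

theorem card_elem {E : Subgroup L} (hE : Abelem 2 E) : #E ^ 2 < Nat.card Ω := by
  obtain ⟨-, -, cQ, -⟩ := sz_card S h4 h3
  rw [S.card_Ω, cQ, Nat.lt_succ_iff]
  refine Nat.pow_le_pow_left ?_ 2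
  by_cases e : E = ⊥
  · rw [e, card_bot']; exact card_pos _
  obtain ⟨z, hz, z1⟩ := exists_mem_ne_one e
  have o := orderOf_of_pow Nat.prime_two (hE.pow z hz) z1
  obtain ⟨c, hc⟩ := S.exists_fix o
  obtain ⟨g, rfl⟩ := S.tr1 c
  rw [← card_cj g⁻¹ E]
  refine card_le fun x hx => ?_
  rw [mem_cj, inv_inv] at hx
  have := S.fix_of_comm o hc (mem_C_comm hE.abel hx hz)
  refine ⟨by simpa [mul_smul] using this, ?_⟩
  have := hE.pow _ hx
  rw [conj_pow] at this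
  simpa [sq] using this

end

/-- the Borel subgroup -/
structure Bo {G : Type*} [Group G] (I Q Z : Subgroup G) : Prop where
  syl : Syl 2 Q I
  zle : Z ≤ Q
  zc : Z ≤ C[Q]
  inv : ∀ x ∈ Q, x * x = 1 → x ∈ Z
  zsq : ∀ x ∈ Z, x * x = 1
  sq : ∀ x ∈ Q, x * x ∈ Z
  nab : ¬ Abel Q
  card : #Q = #Z ^ 2
  eight : 8 ≤ #Z
  c1 : ∀ z ∈ Z, z ≠ 1 → I ⊓ C1[z] ≤ Q
  trZ : ∀ x ∈ Z, x ≠ 1 → ∀ y ∈ Z, y ≠ 1 → ∃ d ∈ I ⊓ N[Q], d * x * d⁻¹ = y
  trQ : ∀ x ∈ Q, x ∉ Z → ∀ y ∈ Q, y ∉ Z → ∃ d ∈ I ⊓ N[Q], d * x * d⁻¹ * y⁻¹ ∈ Z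
  reg : ∀ g ∈ I, g ∉ N[Q] → ∀ h ∈ I, h ∉ N[Q] → ∃ u ∈ Q, h⁻¹ * u * g ∈ N[Q]

theorem bo_of {L : Type*} [Group L] [Finite L] {Ω : Type*} [MulAction L Ω] {a : Ω} {t : L} {Q : Subgroup L}
    (S : R1 L Ω a t Q) (h4 : Four L) [FaithfulSMul L Ω] [IsSimpleGroup L] (h3 : ¬ 3 ∣ Nat.card L) :
    Bo ⊤ Q (S.Q0 h4) := by
  obtain ⟨q2, na, cQ, n, on, c0⟩ := sz_card S h4 h3
  have k := K_eq S h4 h3
  have ck := S.card_K' h4
  have pq := (pig_iff Nat.prime_two).2 q2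
  have o : ∀ {x}, x ∈ S.Q0 h4 → x ≠ 1 → orderOf x = 2 := fun a b => ord2_iff.2 ⟨a.2, b⟩
  have nQ : ∀ {g}, g • a = a → g ∈ ⊤ ⊓ N[Q] := fun h => ⟨mem_top _, S.norm h⟩
  have f4 := S.four_le h4
  refine ⟨syl_mk Nat.prime_two le_top pq ?_, S.Q0_le h4, le_C_iff.2 fun _ a _ b => S.Q0_cent h4 a b,
    fun x hx e => ⟨S.fix hx, e⟩, fun x hx => hx.2, fun x => S.suz_sq h4 q2 na, fun c => na c.comm, cQ, ?_,
    fun z hz z1 g hg => ?_, fun x hx x1 y hy y1 => ?_, fun x hx x1 y hy y1 => ?_, fun g _ g1 h _ h1 => ?_⟩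
  · have := card_mul_relIndex (le_top : Q ≤ ⊤)
    rw [card_top, S.card_G, mul_assoc] at this
    rw [Nat.eq_of_mul_eq_mul_left (card_pos Q) this, ← k, cQ, c0]
    have e : Even (2 ^ n) := (Nat.even_pow' on.pos.ne').2 even_two
    exact (Odd.mul (Nat.not_even_iff_odd.1 (Nat.even_add_one.1 (ck.trans c0 ▸ e)))
      (Nat.even_pow.2 ⟨e, two_ne_zero⟩).add_one).not_two_dvd_nat
  · rw [c0] at f4 ⊢
    obtain ⟨m, rfl⟩ := on
    exact Nat.pow_le_pow_right two_pos (show 3 ≤ _ by rcases m with _ | m <;> [simp at f4; omega])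
  · have e1 := mem_C1.1 hg.2
    obtain ⟨v, hv, d, hd, rfl⟩ := S.exists_mul (S.fix_of_comm (o hz z1) hz.1 e1)
    rw [S.K_free hd (k.ge hd).2 (o hz z1) hz.1 (by
      calc d * z * d⁻¹ = v⁻¹ * (v * d * z) * d⁻¹ := by group
        _ = v⁻¹ * (z * v) := by rw [e1]; group
        _ = z := by rw [S.Q0_cent h4 hz hv]; group), mul_one]
    exact hv
  · obtain ⟨d, d1, -, d2⟩ := S.K_trans (o hx x1) hx.1 (o hy y1) hy.1
    exact ⟨d, nQ d1.1, d2⟩
  · have x2 := S.suz_sq h4 q2 na hx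
    have x3 := o x2 fun e => x1 ⟨S.fix hx, e⟩
    let f : S.K h4 × S.Q0 h4 → {w // w ∈ (Q : Set L) \ S.Q0 h4} := fun p => ⟨p.2 * (p.1 * x * p.1⁻¹),
      mul_mem (S.Q0_le h4 p.2.2) (S.conjQ p.1.2.1.1 hx), fun c => x1 (by
        simpa [mul_assoc] using S.conj_Q0 h4 (inv_mem p.1.2).1.1 (mul_mem (inv_mem p.2.2) c))⟩
    have sq : ∀ k ∈ S.K h4, ∀ z ∈ S.Q0 h4, z * (k * x * k⁻¹) * (z * (k * x * k⁻¹)) = k * (x * x) * k⁻¹ :=
      fun k hk z hz => by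
        nth_rw 1 [S.Q0_cent h4 hz (S.conjQ hk.1.1 hx)]
        rw [mul_assoc, ← mul_assoc z z, hz.2]; group
    have fi : Function.Injective f := by
      rintro ⟨⟨k, k1⟩, z, z1⟩ ⟨⟨l, l1⟩, w, w1⟩ e
      replace e : z * (k * x * k⁻¹) = w * (l * x * l⁻¹) := congrArg Subtype.val e
      obtain rfl := S.K_inj k1.1 k1.2 l1.1 l1.2 x3 x2.1 (by rw [← sq k k1 z z1, e, sq l l1 w w1])
      obtain rfl := mul_right_cancel e
      rfl
    obtain ⟨⟨d, z⟩, e⟩ := (fi.bijective_of_nat_card_le (by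
      rw [Nat.card_prod, Nat.card_coe_set_eq, Set.ncard_sdiff (S.Q0_le h4)]
      change #Q - #(S.Q0 h4) ≤ _
      rw [cQ, ← ck]; exact Nat.sub_le_of_le_add (le_of_eq (by ring)))).2 ⟨y, hy, y1⟩
    obtain rfl : (z : L) * (d * x * d⁻¹) = y := congrArg Subtype.val e
    exact ⟨d, nQ d.2.1.1, by simp [mul_assoc]⟩
  · obtain ⟨u, hu, e⟩ := S.trans (fun c => g1 (nQ c).2) fun c => h1 (nQ c).2
    exact ⟨u, hu, (nQ (by rw [mul_smul, mul_smul, e, inv_smul_smul])).2⟩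

/-- what is used about the simple sections -/
structure Sz (L : Type*) [Group L] : Prop where
  act : ∃ H : Subgroup L, SE.Fix1 L (L ⧸ H) ∧ ∀ E : Subgroup L, Abelem 2 E → #E ^ 2 < Nat.card (L ⧸ H)
  out : ∀ α : MulAut L, (∀ x, α (α x) = x) → ∃ y, ∀ x, α x = y * x * y⁻¹
  nab : ∃ Q : Subgroup L, PiG {2} Q ∧ ¬ Abel Q
  bo : ∃ Q Z : Subgroup L, Bo ⊤ Q Z
  suz : IsSuzuki L

theorem sz_of_se {L : Type*} [Group L] [Finite L] [IsSimpleGroup L] (h3 : ¬ 3 ∣ Nat.card L)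
    {H : Subgroup L} (hH : IsStronglyEmbedded H) : Sz L := by
  obtain ⟨h4, t, Q, S⟩ := SE.r1_se hH
  have := faithful_quot hH.1
  obtain ⟨a, b, -⟩ := sz_card S h4 h3
  exact ⟨⟨H, SE.fix1_of_se hH, fun E => card_elem S h4 h3⟩, fun α => out S h4 h3,
    ⟨Q, (pig_iff Nat.prime_two).2 a, fun c => b c.comm⟩, ⟨_, _, bo_of S h4 h3⟩, by
      obtain ⟨c, d⟩ := S.zass h4 (K_eq S h4 h3)
      exact zas_isSuzuki c (d ▸ a) (d ▸ b)⟩

end Cfsg.Agent.S3F
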